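import Groth.Agent.Lib.AlgSpMor.SchImage.Descend
import Groth.Agent.Lib.AlgSpMor.QC
import Groth.Agent.Lib.AlgSpMor.LocP
import Groth.Agent.Lib.SourceDescent.Scheme
import Groth.Agent.Lib.DescAlg.Sigma.Coprod

/-!
# Scheme theoretic images of morphisms of algebraic spaces

Existence for every morphism; for a quasi-compact morphism the image cuts out the kernel on every
affine scheme flat over the target.
-/

set_option autoImplicit false
set_option linter.style.haveILetI false

universe u

open CategoryTheory CategoryTheory.Limits AlgebraicGeometry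

namespace Groth.Agent.Lib.AlgSpMor.SchImage

open AlgSp (Sp yon RepWith IsAlgSpace LocP IsQuasiCompactMor IsSchImage)
open Groth.Agent.Lib.AlgSpace

variable {S : Scheme.{u}} {F G Z : Sp S}

/-! ### Bases of affine opens -/

theorem exists_affine_nhd {T : Over S} (P : T.left.Opens) {x : ↥T.left} (hx : x ∈ P) :
    ∃ (O : Over S) (c : O ⟶ T), IsAffine O.left ∧ IsOpenImmersion c.left ∧
      x ∈ Set.range c.left ∧ Set.range c.left ⊆ (P : Set ↥T.left) := by
  obtain ⟨W, hW, hxW, hWP⟩ := exists_isAffineOpen_mem_and_subset (U := P) hx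
  refine ⟨Over.mk (W.ι ≫ T.hom), Over.homMk W.ι rfl, hW, inferInstanceAs (IsOpenImmersion W.ι),
    ⟨⟨x, hxW⟩, rfl⟩, ?_⟩
  rintro _ ⟨y, rfl⟩
  exact hWP y.2

/-- An atlas by a coproduct of affine schemes. -/
theorem exists_sigma_atlas (hG : IsAlgSpace G) :
    ∃ (ι : Type u) (O : ι → Over S) (π : (yon S).obj (sigmaOver O) ⟶ G),
      (∀ j, IsAffine (O j).left) ∧ RepWith @Etale π ∧ RepWith @Surjective π := by
  obtain ⟨U, p, he, hs⟩ := hG.atlas
  let O' : U.left.affineOpens → U.left.Opens := fun V ↦ V.1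
  have hsur : Surjective (opensSigmaMap O').left := surjective_opensSigmaMap O' fun x ↦ by
    obtain ⟨V, hV, hx, -⟩ := exists_isAffineOpen_mem_and_subset (U := ⊤) (Set.mem_univ x)
    exact ⟨⟨V, hV⟩, hx⟩
  exact ⟨U.left.affineOpens, fun V ↦ Over.mk ((O' V).ι ≫ U.hom),
    (yon S).map (opensSigmaMap O') ≫ p, fun V ↦ V.2,
    repWith_comp (repWith_etale_yon_map (etale_opensSigmaMap O')) he,
    repWith_comp (repWith_surjective_yon_map hsur) hs⟩

variable {ι : Type u} {O : ι → Over S}

theorem exists_lift_component {A : Over S} (b : A ⟶ sigmaOver O) (j : ι)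
    (h : Set.range b.left ⊆ Set.range (sigmaOverι O j).left) :
    ∃ l : A ⟶ O j, l ≫ sigmaOverι O j = b := by
  haveI : IsOpenImmersion (sigmaOverι O j).left :=
    inferInstanceAs (IsOpenImmersion (Sigma.ι (fun i ↦ (O i).left) j))
  refine ⟨Over.homMk (IsOpenImmersion.lift (sigmaOverι O j).left b.left h) ?_,
    Over.OverMorphism.ext (IsOpenImmersion.lift_fac _ _ _)⟩
  rw [← Over.w (sigmaOverι O j), IsOpenImmersion.lift_fac_assoc, Over.w]

/-- The opens pulled back from a component. -/
noncomputable def compOpen {A : Over S} (b : A ⟶ sigmaOver O) (j : ι) : A.left.Opens :=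
  b.left ⁻¹ᵁ (Sigma.ι (fun i ↦ (O i).left) j).opensRange

theorem exists_mem_compOpen {A : Over S} (b : A ⟶ sigmaOver O) (x : ↥A.left) :
    ∃ j, x ∈ compOpen b j := by
  obtain ⟨j, y, hy⟩ := (sigmaOpenCover fun i ↦ (O i).left).exists_eq (b.left x)
  exact ⟨j, y, hy⟩

theorem exists_lift_of_subset_compOpen {A B : Over S} (b : A ⟶ sigmaOver O) (j : ι) (c : B ⟶ A)
    (h : Set.range c.left ⊆ (compOpen b j : Set ↥A.left)) :
    ∃ l : B ⟶ O j, l ≫ sigmaOverι O j = c ≫ b := by
  refine exists_lift_component (c ≫ b) j ?_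
  rintro _ ⟨y, rfl⟩
  rw [Over.comp_left, Scheme.Hom.comp_apply]
  exact h ⟨y, rfl⟩

/-- Ideals on the components glue. -/
theorem exists_glue (I : ∀ j, (O j).left.IdealSheafData) :
    ∃ J : (sigmaOver O).left.IdealSheafData, ∀ j, J.comap (sigmaOverι O j).left = I j := by
  let m : (∐ fun j ↦ (I j).subscheme) ⟶ ∐ fun j ↦ (O j).left :=
    Limits.Sigma.map fun j ↦ (I j).subschemeι
  haveI : QuasiCompact m := by
    refine IsZariskiLocalAtTarget.of_openCover (P := @QuasiCompact)
      (sigmaOpenCover fun j ↦ (O j).left) fun j ↦ ?_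
    show QuasiCompact (pullback.snd m (Sigma.ι (fun j : ι ↦ (O j).left) j))
    rw [← (DescAlg.Sigma.Coprod.isPullback_map (fun j : ι ↦ (I j).subschemeι) j).flip.isoPullback_inv_snd]
    infer_instance
  refine ⟨m.ker, fun j ↦ ?_⟩
  haveI : Flat (sigmaOverι O j).left :=
    inferInstanceAs (Flat (Sigma.ι (fun i ↦ (O i).left) j))
  exact ((ker_of_isPullback (w := m) (q := (sigmaOverι O j).left)
    (DescAlg.Sigma.Coprod.isPullback_map (fun j : ι ↦ (I j).subschemeι) j).flip).symm).trans
    (I j).ker_subschemeι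

/-! ### Kernels of quasi-compact morphisms -/

theorem exists_witness (hF : IsAlgSpace F) (hG : IsAlgSpace G) {f : F ⟶ G}
    (hf : IsQuasiCompactMor f) {T : Over S} (hT : IsAffine T.left) (ξ : (yon S).obj T ⟶ G) :
    ∃ (W : Over S) (w : W ⟶ T) (a₀ : (yon S).obj W ⟶ F),
      IsAffine W.left ∧ a₀ ≫ f = (yon S).map w ≫ ξ ∧ w.left.ker = kerAt f ξ := by
  haveI := hT
  have sqP := IsPullback.of_hasPullback f ξ
  have hP : IsAlgSpace (pullback f ξ) :=
    isAlgSpace_of_isPullback sqP hG.diag hF (IsAlgSpace.yon_obj T)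
  haveI : CompactSpace (AlgSp.Points (pullback f ξ)) :=
    QC.compactSpace_of_isQuasiCompactMor hf sqP
  obtain ⟨W, p, hW, hpe, hps⟩ := QC.exists_affine_atlas hP
  haveI := hW
  haveI := isLocallySurjective_of_etale hpe hps
  obtain ⟨w, hw⟩ := (yon S).map_surjective (p ≫ pullback.snd f ξ)
  haveI : IsAffineHom w.left := inferInstance
  have ha₀ : (p ≫ pullback.fst f ξ) ≫ f = (yon S).map w ≫ ξ := by
    rw [hw, Category.assoc, Category.assoc, pullback.condition]
  have hle : w.left.ker ≤ kerAt f ξ := by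
    refine Sees.le_kerAt fun A b a ha ↦ ?_
    obtain ⟨A', c, r, hc, hr⟩ := exists_lift_of_isLocallySurjective p (sqP.lift a ((yon S).map b) ha)
    haveI := isLocallySurjective_yon_map c hc
    obtain ⟨r, rfl⟩ := (yon S).map_surjective r
    refine le_ker_of_cover _ c b ?_
    have : r ≫ w = c ≫ b := (yon S).map_injective (by
      rw [Functor.map_comp, Functor.map_comp, hw, reassoc_of% hr, sqP.lift_snd])
    rw [← this, Over.comp_left]
    exact Scheme.Hom.le_ker_comp _ _
  exact ⟨W, w, p ≫ pullback.fst f ξ, hW, ha₀, le_antisymm hle (sees_kerAt f ξ W w _ ha₀)⟩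

theorem comap_kerAt_eq (hF : IsAlgSpace F) (hG : IsAlgSpace G) {f : F ⟶ G}
    (hf : IsQuasiCompactMor f) {T T' : Over S} (hT : IsAffine T.left) (_hT' : IsAffine T'.left)
    (ξ : (yon S).obj T ⟶ G) (q : T' ⟶ T) (hq : Flat q.left) :
    (kerAt f ξ).comap q.left = kerAt f ((yon S).map q ≫ ξ) := by
  refine le_antisymm (comap_kerAt_le f ξ q) ?_
  haveI := hT; haveI := hq
  obtain ⟨W, w, a₀, hW, ha₀, hker⟩ := exists_witness hF hG hf hT ξ
  haveI := hW
  haveI : IsAffineHom w.left := inferInstance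
  have sq := (IsPullback.of_hasPullback w q).map (Over.forget S)
  rw [← hker]
  refine le_of_le_of_eq ?_ (ker_of_isPullback (w := w.left) (q := q.left) sq)
  refine sees_kerAt f ((yon S).map q ≫ ξ) _ (pullback.snd w q)
    ((yon S).map (pullback.fst w q) ≫ a₀) ?_
  rw [Category.assoc, ha₀, ← Category.assoc, ← Functor.map_comp, pullback.condition,
    Functor.map_comp, Category.assoc]

/-! ### The image -/

variable {π : (yon S).obj (sigmaOver O) ⟶ G}

/-- Ideals killed by `f` on each component are killed by `f`. -/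
theorem sees_of_components {f : F ⟶ G} {J : (sigmaOver O).left.IdealSheafData}
    (h : ∀ j, Sees f ((yon S).map (sigmaOverι O j) ≫ π) (J.comap (sigmaOverι O j).left)) :
    Sees f π J := by
  intro A b a ha
  choose j hj using exists_mem_compOpen b
  choose B c hB hc hxc hsub using fun x ↦ exists_affine_nhd (compOpen b (j x)) (hj x)
  refine le_ker_of_family J c (fun x ↦ haveI := hc x; inferInstance) (fun x ↦ ⟨x, hxc x⟩) b fun x ↦ ?_
  obtain ⟨l, hl⟩ := exists_lift_of_subset_compOpen b (j x) (c x) (hsub x)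
  rw [← hl, ← comap_le_ker_iff]
  refine h (j x) (B x) l ((yon S).map (c x) ≫ a) ?_
  rw [Category.assoc, ha, ← Category.assoc, ← Category.assoc, ← Functor.map_comp,
    ← Functor.map_comp, hl]

theorem le_of_components {I J : (sigmaOver O).left.IdealSheafData}
    (h : ∀ j, I.comap (sigmaOverι O j).left ≤ J.comap (sigmaOverι O j).left) : I ≤ J := by
  refine le_of_family (fun j ↦ sigmaOverι O j)
    (fun j ↦ inferInstanceAs (Etale (Sigma.ι (fun i ↦ (O i).left) j))) (fun x ↦ ?_) h
  exact (sigmaOpenCover fun i ↦ (O i).left).exists_eq x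

theorem mono_of_closedImmersion {i : Z ⟶ G} (hi : RepWith @IsClosedImmersion i) : Mono i :=
  mono_of_repWith (fun _ _ g (_ : IsClosedImmersion g) ↦ (inferInstance : Mono g)) hi

theorem isClosed_range_map {i : Z ⟶ G} (hi : RepWith @IsClosedImmersion i) :
    IsClosed (Set.range (AlgSp.Points.map i)) := by
  rw [← isOpen_compl_iff, ← Set.image_univ]
  refine AlgSp.Points.isOpen_iff.2 fun T g ↦ ?_
  obtain ⟨V, v, fst, sq, hv⟩ := repWith_exists hi g
  rw [Set.preimage_compl, preimage_image_map sq, Set.preimage_univ, isOpen_compl_iff,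
    Set.image_univ]
  haveI : IsClosedImmersion v.left := hv
  exact v.left.isClosedEmbedding.isClosed_range

/-- The image on an atlas: the largest invariant ideal killed by the morphism. -/
noncomputable def imageIdeal (f : F ⟶ G) {U R : Over S} (π : (yon S).obj U ⟶ G) (t s : R ⟶ U) :
    U.left.IdealSheafData :=
  sSup {J | Sees f π J ∧ J.comap t.left = J.comap s.left}

theorem sees_imageIdeal (f : F ⟶ G) {U R : Over S} (π : (yon S).obj U ⟶ G) (t s : R ⟶ U) :
    Sees f π (imageIdeal f π t s) :=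
  fun A b a ha ↦ sSup_le fun _ hJ ↦ hJ.1 A b a ha

theorem comap_imageIdeal (f : F ⟶ G) {U R : Over S} (π : (yon S).obj U ⟶ G) (t s : R ⟶ U) :
    (imageIdeal f π t s).comap t.left = (imageIdeal f π t s).comap s.left := by
  unfold imageIdeal
  rw [(Scheme.IdealSheafData.map_gc t.left).l_sSup, (Scheme.IdealSheafData.map_gc s.left).l_sSup]
  exact iSup_congr fun J ↦ iSup_congr fun hJ ↦ hJ.2

theorem exists_image (hG : IsAlgSpace G) (f : F ⟶ G) {U R : Over S} {π : (yon S).obj U ⟶ G}
    (he : RepWith @Etale π) (hs : RepWith @Surjective π) {t s : R ⟶ U}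
    (sq : IsPullback ((yon S).map t) ((yon S).map s) π π) :
    ∃ (Z : Sp S) (i : Z ⟶ G), IsAlgSpace Z ∧ IsSchImage f i ∧ Cut i π (imageIdeal f π t s) := by
  obtain ⟨Z, i, hZ, hi, hI⟩ :=
    exists_of_invariant hG he hs sq (imageIdeal f π t s) (comap_imageIdeal f π t s)
  refine ⟨Z, i, hZ, ⟨hi, exists_factor hG he hs hi hI (sees_imageIdeal f π t s), ?_⟩, hI⟩
  rintro Z' i' - hi' ⟨f'', hf''⟩
  obtain ⟨I', hI'⟩ := exists_cut hi' π
  have hinv : I'.comap t.left = I'.comap s.left := by
    refine Cut.unique (hI'.comap t) ?_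
    rw [sq.w]
    exact hI'.comap s
  refine exists_factor hG he hs hi' hI' fun A b a ha ↦ ?_
  exact (le_sSup ⟨hI'.sees hf'', hinv⟩ : I' ≤ imageIdeal f π t s).trans ((hI A b).1 ⟨a, ha⟩)

theorem Cut.of_factors {Z' : Sp S} {i : Z ⟶ G} {i' : Z' ⟶ G} {T : Over S}
    {ξ : (yon S).obj T ⟶ G} {I : T.left.IdealSheafData} (h : Cut i ξ I)
    (h₁ : ∃ k : Z' ⟶ Z, k ≫ i = i') (h₂ : ∃ k : Z ⟶ Z', k ≫ i' = i) : Cut i' ξ I := by
  intro A b
  obtain ⟨k, hk⟩ := h₁
  obtain ⟨k', hk'⟩ := h₂
  rw [← h]
  exact ⟨fun ⟨a, ha⟩ ↦ ⟨a ≫ k, by rw [Category.assoc, hk, ha]⟩,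
    fun ⟨a, ha⟩ ↦ ⟨a ≫ k', by rw [Category.assoc, hk', ha]⟩⟩

/-- A closed subspace cutting out the kernel on affine etale charts is the image. -/
theorem isSchImage_of_affine (hG : IsAlgSpace G) {f : F ⟶ G} {i : Z ⟶ G}
    (hi : RepWith @IsClosedImmersion i)
    (h : ∀ (T : Over S), IsAffine T.left → ∀ (ξ : (yon S).obj T ⟶ G), RepWith @Etale ξ →
      Cut i ξ (kerAt f ξ)) : IsSchImage f i := by
  obtain ⟨κ, O, π, hO, he, hs⟩ := exists_sigma_atlas hG
  have hξ : ∀ j, RepWith @Etale ((yon S).map (sigmaOverι O j) ≫ π) := fun j ↦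
    repWith_comp (repWith_etale_yon_map
      (inferInstanceAs (Etale (Sigma.ι (fun i ↦ (O i).left) j)))) he
  obtain ⟨I, hI⟩ := exists_cut hi π
  have hIj : ∀ j, I.comap (sigmaOverι O j).left = kerAt f ((yon S).map (sigmaOverι O j) ≫ π) :=
    fun j ↦ (hI.comap _).unique (h _ (hO j) _ (hξ j))
  have hsees : Sees f π I := sees_of_components fun j ↦ by
    rw [hIj]
    exact sees_kerAt _ _
  refine ⟨hi, exists_factor hG he hs hi hI hsees, ?_⟩
  rintro Z' i' - hi' ⟨f'', hf''⟩
  obtain ⟨I', hI'⟩ := exists_cut hi' π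
  refine exists_factor hG he hs hi' hI' fun A b a ha ↦ ?_
  refine le_trans (le_of_components fun j ↦ ?_) ((hI A b).1 ⟨a, ha⟩)
  rw [hIj]
  exact ((hI'.sees hf'').comap _).le_kerAt

/-- The image of a quasi-compact morphism cuts out the kernel on affine schemes flat over the
target. -/
theorem cut_kerAt (hF : IsAlgSpace F) (hG : IsAlgSpace G) {f : F ⟶ G} (hf : IsQuasiCompactMor f)
    {i : Z ⟶ G} (hZ : IsAlgSpace Z) (h : IsSchImage f i) {T : Over S} (hT : IsAffine T.left)
    {ξ : (yon S).obj T ⟶ G} (hξ : LocP @Flat ξ) : Cut i ξ (kerAt f ξ) := by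
  obtain ⟨κ, O, π, hO, he, hs⟩ := exists_sigma_atlas hG
  obtain ⟨R, t, s, sq⟩ := exists_isPullback_yon hG.diag π π
  haveI : Etale t.left := repWith_property he sq.flip
  haveI : Etale s.left := repWith_property he sq
  obtain ⟨J, hJ⟩ := exists_glue fun j ↦ kerAt f ((yon S).map (sigmaOverι O j) ≫ π)
  have hsees : Sees f π J := sees_of_components fun j ↦ by
    rw [hJ]
    exact sees_kerAt _ _
  have hinv : J.comap t.left = J.comap s.left := by
    choose j hj using exists_mem_compOpen t
    choose k hk using exists_mem_compOpen s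
    choose B c hB hc hxc hsub using fun x ↦
      exists_affine_nhd (compOpen t (j x) ⊓ compOpen s (k x)) ⟨hj x, hk x⟩
    refine eq_of_family c (fun x ↦ haveI := hc x; inferInstance) (fun x ↦ ⟨x, hxc x⟩) fun x ↦ ?_
    haveI := hc x
    obtain ⟨l, hl⟩ := exists_lift_of_subset_compOpen t (j x) (c x)
      ((hsub x).trans fun _ hy ↦ hy.1)
    obtain ⟨m, hm⟩ := exists_lift_of_subset_compOpen s (k x) (c x)
      ((hsub x).trans fun _ hy ↦ hy.2)
    haveI : Flat l.left := by
      haveI : Etale (sigmaOverι O (j x)).left :=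
        inferInstanceAs (Etale (Sigma.ι (fun i ↦ (O i).left) (j x)))
      haveI : Etale (l.left ≫ (sigmaOverι O (j x)).left) := by
        rw [← Over.comp_left, hl]; exact inferInstanceAs (Etale ((c x).left ≫ t.left))
      haveI : Etale l.left := Etale.of_comp l.left (sigmaOverι O (j x)).left
      infer_instance
    haveI : Flat m.left := by
      haveI : Etale (sigmaOverι O (k x)).left :=
        inferInstanceAs (Etale (Sigma.ι (fun i ↦ (O i).left) (k x)))
      haveI : Etale (m.left ≫ (sigmaOverι O (k x)).left) := by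
        rw [← Over.comp_left, hm]; exact inferInstanceAs (Etale ((c x).left ≫ s.left))
      haveI : Etale m.left := Etale.of_comp m.left (sigmaOverι O (k x)).left
      infer_instance
    rw [← Scheme.IdealSheafData.comap_comp, ← Scheme.IdealSheafData.comap_comp, ← Over.comp_left,
      ← Over.comp_left, ← hl, ← hm, Over.comp_left, Over.comp_left,
      Scheme.IdealSheafData.comap_comp, Scheme.IdealSheafData.comap_comp, hJ, hJ,
      comap_kerAt_eq hF hG hf (hO _) (hB x) _ l inferInstance,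
      comap_kerAt_eq hF hG hf (hO _) (hB x) _ m inferInstance]
    congr 1
    rw [← Category.assoc, ← Category.assoc, ← Functor.map_comp, ← Functor.map_comp, hl, hm,
      Functor.map_comp, Functor.map_comp, Category.assoc, Category.assoc, sq.w]
  obtain ⟨Z₀, i₀, hZ₀, him, hI₀⟩ := exists_image hG f he hs sq
  have hIJ : imageIdeal f π t s = J := le_antisymm (le_of_components fun j ↦ by
    rw [hJ]
    exact ((sees_imageIdeal f π t s).comap _).le_kerAt) (le_sSup ⟨hsees, hinv⟩)
  rw [hIJ] at hI₀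
  have hcut : Cut i π J := hI₀.of_factors (h.2.2 i₀ hZ₀ him.1 him.2.1) (him.2.2 i hZ h.1 h.2.1)
  obtain ⟨I, hI⟩ := exists_cut h.1 ξ
  suffices I = kerAt f ξ by rwa [← this]
  obtain ⟨R', p, v, sq'⟩ := exists_isPullback_yon hG.diag ξ π
  haveI : Etale p.left := repWith_property he sq'.flip
  haveI : Surjective p.left := repWith_property hs sq'.flip
  haveI : Flat v.left := repWith_property (LocP.repWith_of_locP SourceDescent.Scheme.flat hG
    (representable_from_yon hG.diag ξ) hξ) sq'
  choose j hj using exists_mem_compOpen v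
  choose B c hB hc hxc hsub using fun x ↦ exists_affine_nhd (compOpen v (j x)) (hj x)
  refine eq_of_family (fun x ↦ c x ≫ p) (fun x ↦ ?_) (fun y ↦ ?_) fun x ↦ ?_
  · haveI := hc x
    exact inferInstanceAs (Etale ((c x).left ≫ p.left))
  · obtain ⟨r, rfl⟩ := p.left.surjective y
    obtain ⟨z, hz⟩ := hxc r
    exact ⟨r, z, by rw [Over.comp_left, Scheme.Hom.comp_apply, hz]⟩
  haveI := hc x
  obtain ⟨l, hl⟩ := exists_lift_of_subset_compOpen v (j x) (c x) (hsub x)
  haveI : Flat l.left := by
    haveI : IsOpenImmersion (sigmaOverι O (j x)).left :=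
      inferInstanceAs (IsOpenImmersion (Sigma.ι (fun i ↦ (O i).left) (j x)))
    have : l.left ≫ (sigmaOverι O (j x)).left = (c x).left ≫ v.left := congr($(hl).left)
    have sql : IsPullback (𝟙 _) l.left ((c x).left ≫ v.left) (sigmaOverι O (j x)).left :=
      IsPullback.of_horiz_isIso_mono ⟨by rw [Category.id_comp]; exact this.symm⟩
    exact MorphismProperty.of_isPullback (P := @Flat) sql inferInstance
  have e : (yon S).map (c x ≫ p) ≫ ξ =
      (yon S).map l ≫ (yon S).map (sigmaOverι O (j x)) ≫ π := by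
    rw [← Category.assoc, ← Functor.map_comp, hl, Functor.map_comp, Functor.map_comp,
      Category.assoc, Category.assoc, sq'.w]
  rw [comap_kerAt_eq hF hG hf hT (hB x) ξ (c x ≫ p)
    (inferInstanceAs (Flat ((c x).left ≫ p.left))), e,
    ← comap_kerAt_eq hF hG hf (hO _) (hB x) _ l inferInstance, ← hJ]
  have h1 := (hcut.comap (sigmaOverι O (j x))).comap l
  have h2 := hI.comap (c x ≫ p)
  rw [e] at h2
  exact h2.unique h1

end Groth.Agent.Lib.AlgSpMor.SchImage
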