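import Groth.Agent.Lib.AlgSpMor.SchImage.Rep
import Groth.Agent.Lib.Ideal.Comap
import Groth.Prelude.Def_AlgSpModX

/-!
# Closed subspaces from compatible ideals on affine etale charts
-/

set_option autoImplicit false
set_option linter.style.haveILetI false

universe u

open CategoryTheory CategoryTheory.Limits AlgebraicGeometry

namespace Groth.Agent.Lib.AlgSpMor.SchImage

open AlgSp (Sp yon RepWith IsAlgSpace EtOver)
open Groth.Agent.Lib.AlgSpace

theorem comap_ofIdealTop {X Y : Scheme.{u}} [IsAffine X] [IsAffine Y] (g : X ⟶ Y)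
    (a : Ideal Γ(Y, ⊤)) :
    (Scheme.IdealSheafData.ofIdealTop a).comap g =
      Scheme.IdealSheafData.ofIdealTop (a.map g.appTop.hom) := by
  refine Scheme.IdealSheafData.ext_of_isAffine ?_
  rw [Groth.Agent.Lib.Ideal.Comap.ideal_comap_top]
  simp

theorem ofIdealTop_le_iff {X : Scheme.{u}} [IsAffine X] (a b : Ideal Γ(X, ⊤)) :
    Scheme.IdealSheafData.ofIdealTop a ≤ Scheme.IdealSheafData.ofIdealTop b ↔ a ≤ b :=
  (Scheme.IdealSheafData.equivOfIsAffine (X := X)).symm.toOrderIso.le_iff_le

variable {S : Scheme.{u}} {F G Z : Sp S}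

/-- Compatible ideals on affine etale charts cut out a closed subspace. -/
theorem exists_cut_of_family (hG : IsAlgSpace G)
    (K : ∀ (T : Over S), ((yon S).obj T ⟶ G) → T.left.IdealSheafData)
    (hK : ∀ (T T' : Over S) (ξ : (yon S).obj T ⟶ G) (q : T' ⟶ T), IsAffine T.left →
      IsAffine T'.left → RepWith @Etale ξ → Etale q.left →
        (K T ξ).comap q.left = K T' ((yon S).map q ≫ ξ)) :
    ∃ (Z : Sp S) (i : Z ⟶ G), IsAlgSpace Z ∧ RepWith @IsClosedImmersion i ∧
      ∀ (T : Over S), IsAffine T.left → ∀ (ξ : (yon S).obj T ⟶ G), RepWith @Etale ξ →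
        Cut i ξ (K T ξ) := by
  obtain ⟨κ, O, π, hO, he, hs⟩ := exists_sigma_atlas hG
  obtain ⟨R, t, s, sq⟩ := exists_isPullback_yon hG.diag π π
  haveI : Etale t.left := repWith_property he sq.flip
  haveI : Etale s.left := repWith_property he sq
  have hι : ∀ j, IsOpenImmersion (sigmaOverι O j).left := fun j ↦
    inferInstanceAs (IsOpenImmersion (Sigma.ι (fun i ↦ (O i).left) j))
  have hξ : ∀ j, RepWith @Etale ((yon S).map (sigmaOverι O j) ≫ π) := fun j ↦
    haveI := hι j
    repWith_comp (repWith_etale_yon_map (inferInstanceAs (Etale (sigmaOverι O j).left))) he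
  have key : ∀ {A B : Over S} (v : A ⟶ sigmaOver O) (j : κ) (c : B ⟶ A) [Etale v.left],
      IsOpenImmersion c.left → ∀ l : B ⟶ O j, l ≫ sigmaOverι O j = c ≫ v → Etale l.left := by
    intro A B v j c _ hc l hl
    haveI := hι j
    haveI := hc
    haveI : Etale (l.left ≫ (sigmaOverι O j).left) := by
      rw [← Over.comp_left, hl]; exact inferInstanceAs (Etale (c.left ≫ v.left))
    exact Etale.of_comp l.left (sigmaOverι O j).left
  obtain ⟨J, hJ⟩ := exists_glue fun j ↦ K (O j) ((yon S).map (sigmaOverι O j) ≫ π)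
  have hinv : J.comap t.left = J.comap s.left := by
    choose j hj using exists_mem_compOpen t
    choose k hk using exists_mem_compOpen s
    choose B c hB hc hxc hsub using fun x ↦
      exists_affine_nhd (compOpen t (j x) ⊓ compOpen s (k x)) ⟨hj x, hk x⟩
    refine eq_of_family c (fun x ↦ haveI := hc x; inferInstance) (fun x ↦ ⟨x, hxc x⟩) fun x ↦ ?_
    obtain ⟨l, hl⟩ := exists_lift_of_subset_compOpen t (j x) (c x)
      ((hsub x).trans fun _ hy ↦ hy.1)
    obtain ⟨m, hm⟩ := exists_lift_of_subset_compOpen s (k x) (c x)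
      ((hsub x).trans fun _ hy ↦ hy.2)
    rw [← Scheme.IdealSheafData.comap_comp, ← Scheme.IdealSheafData.comap_comp, ← Over.comp_left,
      ← Over.comp_left, ← hl, ← hm, Over.comp_left, Over.comp_left,
      Scheme.IdealSheafData.comap_comp, Scheme.IdealSheafData.comap_comp, hJ, hJ,
      hK _ _ _ l (hO _) (hB x) (hξ _) (key t (j x) (c x) (hc x) l hl),
      hK _ _ _ m (hO _) (hB x) (hξ _) (key s (k x) (c x) (hc x) m hm)]
    congr 1
    rw [← Category.assoc, ← Category.assoc, ← Functor.map_comp, ← Functor.map_comp, hl, hm,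
      Functor.map_comp, Functor.map_comp, Category.assoc, Category.assoc, sq.w]
  obtain ⟨Z, i, hZ, hi, hcut⟩ := exists_of_invariant hG he hs sq J hinv
  refine ⟨Z, i, hZ, hi, fun T hT ξ hξe ↦ ?_⟩
  obtain ⟨I, hI⟩ := exists_cut hi ξ
  suffices I = K T ξ by rwa [← this]
  obtain ⟨R', p, v, sq'⟩ := exists_isPullback_yon hG.diag ξ π
  haveI : Etale p.left := repWith_property he sq'.flip
  haveI : Surjective p.left := repWith_property hs sq'.flip
  haveI : Etale v.left := repWith_property hξe sq'
  choose j hj using exists_mem_compOpen v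
  choose B c hB hc hxc hsub using fun x ↦ exists_affine_nhd (compOpen v (j x)) (hj x)
  refine eq_of_family (fun x ↦ c x ≫ p) (fun x ↦ ?_) (fun y ↦ ?_) fun x ↦ ?_
  · haveI := hc x
    exact inferInstanceAs (Etale ((c x).left ≫ p.left))
  · obtain ⟨r, rfl⟩ := p.left.surjective y
    obtain ⟨z, hz⟩ := hxc r
    exact ⟨r, z, by rw [Over.comp_left, Scheme.Hom.comp_apply, hz]⟩
  haveI := hc x
  obtain ⟨l, hl⟩ := exists_lift_of_subset_compOpen v (j x) (c x) (hsub x)
  have e : (yon S).map (c x ≫ p) ≫ ξ =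
      (yon S).map l ≫ (yon S).map (sigmaOverι O (j x)) ≫ π := by
    rw [← Category.assoc, ← Functor.map_comp, hl, Functor.map_comp, Functor.map_comp,
      Category.assoc, Category.assoc, sq'.w]
  rw [hK T (B x) ξ (c x ≫ p) hT (hB x) hξe (inferInstanceAs (Etale ((c x).left ≫ p.left))), e,
    ← hK _ _ _ l (hO _) (hB x) (hξ _) (key v (j x) (c x) (hc x) l hl), ← hJ]
  have h1 := (hcut.comap (sigmaOverι O (j x))).comap l
  have h2 := hI.comap (c x ≫ p)
  rw [e] at h2
  exact h2.unique h1

/-- The ideal of a representable morphism on an affine chart is the kernel there. -/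
theorem ofIdealTop_idealOfRep {f : F ⟶ G} (hf : AlgSp.Representable f) (E : EtOver G)
    (hE : IsAffine E.obj.left.left) :
    Scheme.IdealSheafData.ofIdealTop ((AlgSp.idealOfRep hf).ideal E hE) = kerAt f E.obj.hom := by
  haveI := hE
  rw [kerAt_eq_ker (hf.isPullback E.obj.hom), Scheme.ker_of_isAffine]
  rfl

/-- A closed immersion cuts out its kernel. -/
theorem cut_kerAt_self {i : Z ⟶ G} (hi : RepWith @IsClosedImmersion i) {T : Over S}
    (ξ : (yon S).obj T ⟶ G) : Cut i ξ (kerAt i ξ) := by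
  obtain ⟨W, w, fst, sq, hw⟩ := repWith_exists hi ξ
  haveI : IsClosedImmersion w.left := hw
  rw [kerAt_eq_ker sq]
  exact cut_of_isPullback sq

end Groth.Agent.Lib.AlgSpMor.SchImage
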