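import Groth.Agent.Lib.AlgSpace.Quot
import Groth.Agent.Lib.AlgSpMor.RepDescent
import Groth.Prelude.Def_AlgSpSub
import Mathlib.AlgebraicGeometry.IdealSheaf.Functorial
import Mathlib.AlgebraicGeometry.Morphisms.SchemeTheoreticallyDominant

/-!
# Closed subschemes of charts and ideals killed by a morphism

`Cut i ξ I` says that the closed subscheme of `I` is the inverse image of `i` along the chart `ξ`;
`Sees f ξ J` says that the base change of `f` along `ξ` factors through the closed subscheme of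
`J`. Both are stated through points with values in schemes.
-/

set_option autoImplicit false
set_option linter.style.haveILetI false

universe u

open CategoryTheory CategoryTheory.Limits AlgebraicGeometry

namespace Groth.Agent.Lib.AlgSpMor.SchImage

open AlgSp (Sp yon RepWith IsAlgSpace)
open Groth.Agent.Lib.AlgSpace

/-! ### Ideals on schemes -/

/-- The kernel commutes with flat base change for quasi-compact morphisms. -/
theorem ker_of_isPullback {W T W' T' : Scheme.{u}} {w : W ⟶ T} {q : T' ⟶ T} {fst : W' ⟶ W}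
    {w' : W' ⟶ T'} (sq : IsPullback fst w' w q) [QuasiCompact w] [Flat q] :
    w'.ker = w.ker.comap q := by
  have sq2 := IsPullback.of_hasPullback w.imageι q
  haveI : IsSchemeTheoreticallyDominant w.toImage := by
    rw [isSchemeTheoreticallyDominant_iff]
    refine Scheme.IdealSheafData.ext_of_iSup_eq_top
      (fun U : T.affineOpens ↦ ⟨_, U.2.preimage w.imageι⟩) ?_ fun U ↦ ?_
    · show (⨆ U : T.affineOpens, w.imageι ⁻¹ᵁ U.1) = ⊤
      rw [← Scheme.Hom.preimage_iSup, iSup_affineOpens_eq_top]; rfl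
    · rw [Scheme.Hom.ker_apply, Scheme.IdealSheafData.ideal_bot, Pi.bot_apply,
        ← RingHom.injective_iff_ker_eq_bot]
      exact w.toImage_app_injective U
  let k : W' ⟶ pullback w.imageι q :=
    sq2.lift (fst ≫ w.toImage) w' (by rw [Category.assoc, w.toImage_imageι, sq.w])
  have sqk : IsPullback fst k w.toImage (pullback.fst w.imageι q) :=
    IsPullback.of_bot (by rw [w.toImage_imageι, sq2.lift_snd]; exact sq) (sq2.lift_fst _ _ _).symm
      sq2
  haveI : IsSchemeTheoreticallyDominant k := .of_isPullback sqk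
  rw [show w' = k ≫ pullback.snd _ _ from (sq2.lift_snd _ _ _).symm, Scheme.Hom.ker_comp,
    k.ker_eq_bot, Scheme.IdealSheafData.map_bot]
  rw [← sq2.flip.isoPullback_hom_fst, Scheme.Hom.ker_comp_of_isIso,
    Scheme.IdealSheafData.ker_fst_of_isClosedImmersion, Scheme.Hom.imageι,
    Scheme.IdealSheafData.ker_subschemeι]

variable {S : Scheme.{u}} {F G Z : Sp S} {T T' : Over S}

/-- The closed subscheme of an ideal sheaf, over the base. -/
noncomputable abbrev sub (I : T.left.IdealSheafData) : Over S := Over.mk (I.subschemeι ≫ T.hom)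

/-- Its inclusion. -/
noncomputable abbrev subι (I : T.left.IdealSheafData) : sub I ⟶ T := Over.homMk I.subschemeι rfl

instance (I : T.left.IdealSheafData) : IsClosedImmersion (subι I).left :=
  inferInstanceAs (IsClosedImmersion I.subschemeι)

instance (I : T.left.IdealSheafData) : Mono (subι I) :=
  (Over.forget S).mono_of_mono_map (inferInstanceAs (Mono I.subschemeι))

theorem ker_subι (I : T.left.IdealSheafData) : (subι I).left.ker = I :=
  I.ker_subschemeι

theorem le_ker_iff (I : T.left.IdealSheafData) {A : Over S} (b : A ⟶ T) :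
    I ≤ b.left.ker ↔ ∃ k : A ⟶ sub I, k ≫ subι I = b := by
  constructor
  · intro h
    refine ⟨Over.homMk (IsClosedImmersion.lift I.subschemeι b.left (by rwa [I.ker_subschemeι]))
      ?_, Over.OverMorphism.ext (IsClosedImmersion.lift_fac _ _ _)⟩
    show _ ≫ I.subschemeι ≫ T.hom = _
    rw [IsClosedImmersion.lift_fac_assoc, Over.w]
  · rintro ⟨k, rfl⟩
    rw [Over.comp_left]
    exact (ker_subι I).symm.le.trans (Scheme.Hom.le_ker_comp _ _)

theorem comap_le_ker_iff (J : T.left.IdealSheafData) (q : T' ⟶ T) {A : Over S} (b : A ⟶ T') :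
    J.comap q.left ≤ b.left.ker ↔ J ≤ (b ≫ q).left.ker := by
  rw [← Scheme.IdealSheafData.le_map_iff_comap_le, Scheme.IdealSheafData.map_ker, ← Over.comp_left]

/-- Factoring through a closed subscheme descends along a cover. -/
theorem le_ker_of_cover (I : T.left.IdealSheafData) {A A' : Over S} (p : A' ⟶ A)
    [Sheaf.IsLocallySurjective ((yon S).map p)] (b : A ⟶ T) (h : I ≤ (p ≫ b).left.ker) :
    I ≤ b.left.ker := by
  obtain ⟨k, hk⟩ := (le_ker_iff I _).1 h
  obtain ⟨l, hl⟩ := exists_desc ((yon S).map p) (IsPullback.of_hasPullback _ _) ((yon S).map k) (by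
    rw [← cancel_mono ((yon S).map (subι I))]
    simp only [Category.assoc, ← Functor.map_comp, hk]
    simp only [Functor.map_comp]
    exact pullback.condition_assoc _)
  obtain ⟨l, rfl⟩ := (yon S).map_surjective l
  refine (le_ker_iff I b).2 ⟨l, (yon S).map_injective ?_⟩
  have : Epi ((yon S).map p) := inferInstance
  rw [← cancel_epi ((yon S).map p), Functor.map_comp, reassoc_of% hl, ← Functor.map_comp,
    ← Functor.map_comp, hk]

/-- Factoring through a closed subscheme can be tested on a jointly surjective family of etale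
morphisms. -/
theorem le_ker_of_family (I : T.left.IdealSheafData) {A : Over S} {ι : Type u} {O : ι → Over S}
    (c : ∀ j, O j ⟶ A) (hc : ∀ j, Etale (c j).left) (hs : ∀ x : ↥A.left, ∃ j y, (c j).left y = x)
    (b : A ⟶ T) (h : ∀ j, I ≤ (c j ≫ b).left.ker) : I ≤ b.left.ker := by
  let C : sigmaOver O ⟶ A := Over.homMk (Sigma.desc fun j ↦ (c j).left)
    (Sigma.hom_ext _ _ fun j ↦ by simp)
  haveI : IsZariskiLocalAtSource @Etale.{u} :=
    HasRingHomProperty.instIsZariskiLocalAtSource (P := @Etale) (Q := RingHom.Etale)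
  haveI : Etale C.left := IsZariskiLocalAtSource.sigmaDesc (P := @Etale) hc
  haveI : Surjective C.left := ⟨fun x ↦ by
    obtain ⟨j, y, rfl⟩ := hs x
    exact ⟨(sigmaOverι O j).left y, by
      rw [← Scheme.Hom.comp_apply]; simp [C]⟩⟩
  haveI := isLocallySurjective_yon_map C (fppfCover_mk C.left)
  refine le_ker_of_cover I C b ?_
  obtain ⟨k, hk⟩ : ∃ k : ∀ j, O j ⟶ sub I, ∀ j, k j ≫ subι I = c j ≫ b :=
    ⟨fun j ↦ ((le_ker_iff I _).1 (h j)).choose, fun j ↦ ((le_ker_iff I _).1 (h j)).choose_spec⟩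
  refine (le_ker_iff I _).2 ⟨Over.homMk (Sigma.desc fun j ↦ (k j).left)
    (Sigma.hom_ext _ _ fun j ↦ by simpa using Over.w (k j)), Over.OverMorphism.ext (Sigma.hom_ext _ _ fun j ↦ ?_)⟩
  simpa [C] using congr($(hk j).left)

/-- Ideals can be compared on a jointly surjective family of etale morphisms. -/
theorem le_of_family {I J : T.left.IdealSheafData} {ι : Type u} {O : ι → Over S}
    (c : ∀ j, O j ⟶ T) (hc : ∀ j, Etale (c j).left) (hs : ∀ x : ↥T.left, ∃ j y, (c j).left y = x)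
    (h : ∀ j, I.comap (c j).left ≤ J.comap (c j).left) : I ≤ J := by
  rw [← ker_subι J]
  refine le_ker_of_family I (fun j ↦ pullback.fst (subι J) (c j)) (fun j ↦ ?_) (fun x ↦ ?_) _
    fun j ↦ ?_
  · exact MorphismProperty.of_isPullback (P := @Etale)
      ((IsPullback.of_hasPullback (subι J) (c j)).map (Over.forget S)).flip (hc j)
  · obtain ⟨j, y, hy⟩ := hs ((subι J).left x)
    obtain ⟨z, hz, -⟩ := Scheme.exists_preimage_of_isPullback
      ((IsPullback.of_hasPullback (subι J) (c j)).map (Over.forget S)) x y hy.symm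
    exact ⟨j, z, hz⟩
  · rw [pullback.condition, ← comap_le_ker_iff]
    refine (h j).trans ?_
    rw [comap_le_ker_iff, ← pullback.condition]
    exact (le_ker_iff J _).2 ⟨_, rfl⟩

theorem eq_of_family {I J : T.left.IdealSheafData} {ι : Type u} {O : ι → Over S}
    (c : ∀ j, O j ⟶ T) (hc : ∀ j, Etale (c j).left) (hs : ∀ x : ↥T.left, ∃ j y, (c j).left y = x)
    (h : ∀ j, I.comap (c j).left = J.comap (c j).left) : I = J :=
  le_antisymm (le_of_family c hc hs fun j ↦ (h j).le) (le_of_family c hc hs fun j ↦ (h j).ge)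

/-! ### Inverse images of closed subspaces -/

/-- The closed subscheme of `I` is the inverse image of `i` along `ξ`. -/
def Cut (i : Z ⟶ G) (ξ : (yon S).obj T ⟶ G) (I : T.left.IdealSheafData) : Prop :=
  ∀ (A : Over S) (b : A ⟶ T),
    (∃ a : (yon S).obj A ⟶ Z, a ≫ i = (yon S).map b ≫ ξ) ↔ I ≤ b.left.ker

theorem cut_of_isPullback {i : Z ⟶ G} {ξ : (yon S).obj T ⟶ G} {W : Over S} {w : W ⟶ T}
    {fst : (yon S).obj W ⟶ Z} (sq : IsPullback fst ((yon S).map w) i ξ)
    [IsClosedImmersion w.left] : Cut i ξ w.left.ker := by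
  intro A b
  constructor
  · rintro ⟨a, ha⟩
    obtain ⟨l, hl⟩ := (yon S).map_surjective (sq.lift a ((yon S).map b) ha)
    have : l ≫ w = b := (yon S).map_injective (by rw [Functor.map_comp, hl, sq.lift_snd])
    rw [← this, Over.comp_left]
    exact Scheme.Hom.le_ker_comp _ _
  · intro h
    refine ⟨(yon S).map (Over.homMk (IsClosedImmersion.lift w.left b.left h) (by
      rw [← Over.w w, ← Category.assoc, IsClosedImmersion.lift_fac, Over.w]) : A ⟶ W) ≫ fst, ?_⟩
    rw [Category.assoc, sq.w, ← Category.assoc, ← Functor.map_comp]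
    congr 2
    exact Over.OverMorphism.ext (IsClosedImmersion.lift_fac _ _ _)

theorem exists_cut {i : Z ⟶ G} (hi : RepWith @IsClosedImmersion i) (ξ : (yon S).obj T ⟶ G) :
    ∃ I, Cut i ξ I := by
  obtain ⟨W, w, fst, sq, hw⟩ := repWith_exists hi ξ
  haveI : IsClosedImmersion w.left := hw
  exact ⟨_, cut_of_isPullback sq⟩

theorem Cut.le {i : Z ⟶ G} {ξ : (yon S).obj T ⟶ G} {I J : T.left.IdealSheafData} (h : Cut i ξ I)
    (h' : ∀ (A : Over S) (b : A ⟶ T), J ≤ b.left.ker →
      ∃ a : (yon S).obj A ⟶ Z, a ≫ i = (yon S).map b ≫ ξ) : I ≤ J := by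
  rw [← ker_subι J]
  exact (h _ _).1 (h' _ _ (le_of_eq (ker_subι J).symm))

theorem Cut.unique {i : Z ⟶ G} {ξ : (yon S).obj T ⟶ G} {I J : T.left.IdealSheafData}
    (h : Cut i ξ I) (h' : Cut i ξ J) : I = J :=
  le_antisymm (h.le fun A b ↦ (h' A b).2) (h'.le fun A b ↦ (h A b).2)

theorem Cut.comap {i : Z ⟶ G} {ξ : (yon S).obj T ⟶ G} {I : T.left.IdealSheafData} (h : Cut i ξ I)
    (q : T' ⟶ T) : Cut i ((yon S).map q ≫ ξ) (I.comap q.left) := by
  intro A b
  rw [comap_le_ker_iff, ← h, Functor.map_comp, Category.assoc]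

theorem Cut.isPullback {i : Z ⟶ G} [Mono i] {ξ : (yon S).obj T ⟶ G} {I : T.left.IdealSheafData}
    (h : Cut i ξ I) : ∃ fst, IsPullback fst ((yon S).map (subι I)) i ξ := by
  obtain ⟨fst, hf⟩ := (h _ (subι I)).2 (le_of_eq (ker_subι I).symm)
  refine ⟨fst, isPullback_of_yon hf (fun A c c' _ e ↦ (cancel_mono ((yon S).map (subι I))).1 e)
    fun A x y e ↦ ?_⟩
  obtain ⟨y, rfl⟩ := (yon S).map_surjective y
  obtain ⟨k, hk⟩ := (le_ker_iff I y).1 ((h A y).1 ⟨x, e⟩)
  refine ⟨(yon S).map k, ?_, by rw [← Functor.map_comp, hk]⟩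
  rw [← cancel_mono i, Category.assoc, hf, ← Category.assoc, ← Functor.map_comp, hk, e]

/-- Inverse images along a base change of `i`. -/
theorem cut_iff_of_isPullback {Z' V : Sp S} {i : Z ⟶ G} {b : V ⟶ G} {i₁ : Z' ⟶ Z} {iV : Z' ⟶ V}
    (sq : IsPullback i₁ iV i b) (ξ : (yon S).obj T ⟶ V) (I : T.left.IdealSheafData) :
    Cut iV ξ I ↔ Cut i (ξ ≫ b) I := by
  have key : ∀ (A : Over S) (c : A ⟶ T),
      (∃ a : (yon S).obj A ⟶ Z', a ≫ iV = (yon S).map c ≫ ξ) ↔
        ∃ a : (yon S).obj A ⟶ Z, a ≫ i = (yon S).map c ≫ ξ ≫ b := by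
    intro A c
    exact ⟨fun ⟨a, ha⟩ ↦ ⟨a ≫ i₁, by rw [Category.assoc, sq.w, reassoc_of% ha]⟩,
      fun ⟨a, ha⟩ ↦ ⟨sq.lift a _ (by rw [ha, Category.assoc]), sq.lift_snd _ _ _⟩⟩
  exact forall_congr' fun A ↦ forall_congr' fun c ↦ by rw [key]

/-! ### Ideals killed by a morphism -/

/-- The base change of `f` along `ξ` factors through the closed subscheme of `J`. -/
def Sees (f : F ⟶ G) (ξ : (yon S).obj T ⟶ G) (J : T.left.IdealSheafData) : Prop :=
  ∀ (A : Over S) (b : A ⟶ T) (a : (yon S).obj A ⟶ F),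
    a ≫ f = (yon S).map b ≫ ξ → J ≤ b.left.ker

/-- The largest such ideal. -/
noncomputable def kerAt (f : F ⟶ G) (ξ : (yon S).obj T ⟶ G) : T.left.IdealSheafData :=
  sSup {J | Sees f ξ J}

theorem sees_kerAt (f : F ⟶ G) (ξ : (yon S).obj T ⟶ G) : Sees f ξ (kerAt f ξ) :=
  fun A b a ha ↦ sSup_le fun _ hJ ↦ hJ A b a ha

theorem Sees.le_kerAt {f : F ⟶ G} {ξ : (yon S).obj T ⟶ G} {J : T.left.IdealSheafData}
    (h : Sees f ξ J) : J ≤ kerAt f ξ :=
  le_sSup h

theorem Sees.of_le {f : F ⟶ G} {ξ : (yon S).obj T ⟶ G} {I J : T.left.IdealSheafData} (hle : I ≤ J)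
    (h : Sees f ξ J) : Sees f ξ I :=
  fun A b a ha ↦ hle.trans (h A b a ha)

theorem Sees.comap {f : F ⟶ G} {ξ : (yon S).obj T ⟶ G} {J : T.left.IdealSheafData}
    (h : Sees f ξ J) (q : T' ⟶ T) : Sees f ((yon S).map q ≫ ξ) (J.comap q.left) := by
  intro A b a ha
  rw [comap_le_ker_iff]
  exact h A (b ≫ q) a (by rw [ha, Functor.map_comp, Category.assoc])

theorem comap_kerAt_le (f : F ⟶ G) (ξ : (yon S).obj T ⟶ G) (q : T' ⟶ T) :
    (kerAt f ξ).comap q.left ≤ kerAt f ((yon S).map q ≫ ξ) :=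
  ((sees_kerAt f ξ).comap q).le_kerAt

theorem Cut.sees {i : Z ⟶ G} {ξ : (yon S).obj T ⟶ G} {I : T.left.IdealSheafData} (h : Cut i ξ I)
    {f : F ⟶ G} {f' : F ⟶ Z} (hf : f' ≫ i = f) : Sees f ξ I :=
  fun A b a ha ↦ (h A b).1 ⟨a ≫ f', by rw [Category.assoc, hf, ha]⟩

theorem sees_iff_of_isPullback {F' V : Sp S} {f : F ⟶ G} {b : V ⟶ G} {f₁ : F' ⟶ F} {fV : F' ⟶ V}
    (sq : IsPullback f₁ fV f b) (ξ : (yon S).obj T ⟶ V) (J : T.left.IdealSheafData) :
    Sees fV ξ J ↔ Sees f (ξ ≫ b) J :=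
  ⟨fun h A c a ha ↦ h A c (sq.lift a ((yon S).map c ≫ ξ) (by rw [ha, Category.assoc]))
      (sq.lift_snd _ _ _),
    fun h A c a ha ↦ h A c (a ≫ f₁) (by rw [Category.assoc, sq.w, reassoc_of% ha])⟩

theorem kerAt_eq_of_isPullback {F' V : Sp S} {f : F ⟶ G} {b : V ⟶ G} {f₁ : F' ⟶ F} {fV : F' ⟶ V}
    (sq : IsPullback f₁ fV f b) (ξ : (yon S).obj T ⟶ V) : kerAt fV ξ = kerAt f (ξ ≫ b) := by
  unfold kerAt
  congr 1
  ext J
  exact sees_iff_of_isPullback sq ξ J

/-- A morphism factors through a closed subspace as soon as it does so on a chart. -/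
theorem exists_factor {U : Over S} {π : (yon S).obj U ⟶ G} (hG : IsAlgSpace G)
    (he : RepWith @Etale π) (hs : RepWith @Surjective π) {i : Z ⟶ G}
    (hi : RepWith @IsClosedImmersion i) {I : U.left.IdealSheafData} (hI : Cut i π I) {f : F ⟶ G}
    (h : Sees f π I) : ∃ k : F ⟶ Z, k ≫ i = f := by
  haveI : Mono i := mono_of_repWith
    (fun _ _ g (_ : IsClosedImmersion g) ↦ (inferInstance : Mono g)) hi
  have hsurj : ∀ (T : Over S) (x : (yon S).obj T ⟶ F), ∃ a : (yon S).obj T ⟶ Z, a ≫ i = x ≫ f := by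
    intro T x
    obtain ⟨R, r₁, r₂, sq⟩ := exists_isPullback_yon hG.diag (x ≫ f) π
    haveI : Etale r₁.left := repWith_property he sq.flip
    haveI : Surjective r₁.left := repWith_property hs sq.flip
    haveI := isLocallySurjective_yon_map r₁ (fppfCover_mk r₁.left)
    obtain ⟨a, ha⟩ := (hI R r₂).2 (h R r₂ ((yon S).map r₁ ≫ x) (by rw [Category.assoc, sq.w]))
    rw [← sq.w] at ha
    obtain ⟨l, hl⟩ := exists_desc ((yon S).map r₁) (IsPullback.of_hasPullback _ _) a (by
      rw [← cancel_mono i, Category.assoc, Category.assoc, ha, pullback.condition_assoc])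
    exact ⟨l, by rw [← cancel_epi ((yon S).map r₁), reassoc_of% hl, ha]⟩
  haveI : IsIso (pullback.fst f i) := isIso_of_yon _ fun T ↦
    ⟨fun c c' (e : c ≫ pullback.fst f i = c' ≫ pullback.fst f i) ↦ pullback.hom_ext e (by
      rw [← cancel_mono i, Category.assoc, Category.assoc, ← pullback.condition, ← Category.assoc,
        e, Category.assoc]),
    fun x ↦ by
      obtain ⟨a, ha⟩ := hsurj T x
      exact ⟨pullback.lift x a ha.symm, pullback.lift_fst _ _ _⟩⟩
  exact ⟨inv (pullback.fst f i) ≫ pullback.snd f i, by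
    rw [Category.assoc, ← pullback.condition, IsIso.inv_hom_id_assoc]⟩

end Groth.Agent.Lib.AlgSpMor.SchImage
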