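import Groth.Agent.Lib.AlgSpMor.SchImage.Main
import Mathlib.AlgebraicGeometry.Morphisms.Immersion
import Mathlib.AlgebraicGeometry.Properties

/-!
# Scheme theoretic images of representable morphisms; dense opens
-/

set_option autoImplicit false
set_option linter.style.haveILetI false

universe u

open CategoryTheory CategoryTheory.Limits AlgebraicGeometry

namespace Groth.Agent.Lib.AlgSpMor.SchImage

/-! ### Schemes -/

theorem isOpenImmersion_of_isImmersion_of_isReduced {V C : Scheme.{u}} (f : V ⟶ C) [IsImmersion f]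
    [IsDominant f] [IsReduced C] : IsOpenImmersion f := by
  let g := f.liftCoborder
  have hg : g ≫ f.coborderRange.ι = f := f.liftCoborder_ι
  haveI : IsDominant g := by
    refine ⟨?_⟩
    intro y
    rw [f.coborderRange.ι.isOpenEmbedding.isInducing.closure_eq_preimage_closure_image,
      ← Set.range_comp]
    show f.coborderRange.ι y ∈ closure (Set.range (fun v ↦ f.coborderRange.ι (g v)))
    simp_rw [← Scheme.Hom.comp_apply, hg]
    exact f.denseRange.closure_range.symm ▸ Set.mem_univ _
  haveI : IsReduced (f.coborderRange : Scheme) := isReduced_of_isOpenImmersion f.coborderRange.ι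
  haveI := IsSchemeTheoreticallyDominant.of_isDominant g
  haveI : IsIso g.imageι :=
    (Scheme.isIso_subschemeι_iff_eq_bot _).2 g.ker_eq_bot
  haveI : IsClosedImmersion g := inferInstance
  haveI : IsIso g := by rw [← g.toImage_imageι]; infer_instance
  rw [← hg]
  infer_instance

/-- A scheme theoretically dominant quasi-compact open immersion has scheme theoretically dense
range. -/
theorem isSchematicallyDense_of_dominant {V C : Scheme.{u}} (l : V ⟶ C) [IsOpenImmersion l]
    [IsSchemeTheoreticallyDominant l] [QuasiCompact l] :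
    CInt.IsSchematicallyDense l.opensRange := by
  intro U a b h
  refine l.app_injective U ?_
  have hr : l.app U = C.presheaf.map (homOfLE (inf_le_left : U ⊓ l.opensRange ≤ U)).op ≫
      l.appLE (U ⊓ l.opensRange) (l ⁻¹ᵁ U) (fun x hx ↦ ⟨hx, x, rfl⟩) := by
    rw [Scheme.Hom.map_appLE, Scheme.Hom.app_eq_appLE]
  rw [hr]
  exact congrArg (l.appLE (U ⊓ l.opensRange) (l ⁻¹ᵁ U) fun x hx ↦ ⟨hx, x, rfl⟩) h

/-- A dense open of a reduced scheme is scheme theoretically dense. -/
theorem isSchematicallyDense_of_isReduced {C : Scheme.{u}} [IsReduced C] {W : C.Opens}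
    (hW : Dense (W : Set C)) : CInt.IsSchematicallyDense W := by
  intro U a b h
  rw [← sub_eq_zero]
  refine eq_zero_of_basicOpen_eq_bot _ ?_
  have h0 : C.presheaf.map (homOfLE (inf_le_left : U ⊓ W ≤ U)).op (a - b) = 0 := by
    rw [map_sub, sub_eq_zero]; exact h
  have h1 : U ⊓ W ⊓ C.basicOpen (a - b) = ⊥ := by
    rw [← C.basicOpen_res (a - b) (homOfLE (inf_le_left : U ⊓ W ≤ U)).op, h0, Scheme.basicOpen_zero]
  by_contra hne
  obtain ⟨x, hx⟩ := (C.basicOpen (a - b)).ne_bot_iff_nonempty.1 hne
  obtain ⟨y, hyB, hyW⟩ := hW.inter_open_nonempty _ (C.basicOpen (a - b)).2 ⟨x, hx⟩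
  have : y ∈ (U ⊓ W ⊓ C.basicOpen (a - b) : C.Opens) := ⟨⟨C.basicOpen_le _ hyB, hyW⟩, hyB⟩
  rw [h1] at this
  exact this

/-- A scheme theoretically dense quasi-compact open immersion is scheme theoretically dominant. -/
theorem ker_ι_eq_bot {C : Scheme.{u}} {W : C.Opens} [QuasiCompact W.ι]
    (hW : CInt.IsSchematicallyDense W) : W.ι.ker = ⊥ := by
  refine Scheme.IdealSheafData.ext ?_
  funext U
  rw [Scheme.Hom.ker_apply, Scheme.IdealSheafData.ideal_bot, Pi.bot_apply,
    ← RingHom.injective_iff_ker_eq_bot]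
  have hle : W.ι ''ᵁ W.ι ⁻¹ᵁ U.1 ≤ U.1 := W.ι.image_preimage_le _
  intro a b h
  refine hW U.1 ?_
  have he : W.ι ''ᵁ W.ι ⁻¹ᵁ U.1 = U.1 ⊓ W := by
    rw [Scheme.Hom.image_preimage_eq_opensRange_inf, Scheme.Opens.opensRange_ι, inf_comm]
  have h' : C.presheaf.map (homOfLE hle).op a = C.presheaf.map (homOfLE hle).op b := by
    rw [Scheme.Opens.ι_app] at h
    exact h
  have key : ∀ (U' : C.Opens) (hU' : U' ≤ U.1), U' = W.ι ''ᵁ W.ι ⁻¹ᵁ U.1 →
      C.presheaf.map (homOfLE hU').op a = C.presheaf.map (homOfLE hU').op b := by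
    rintro U' hU' rfl
    exact h'
  exact key _ _ he.symm

/-! ### Spaces -/

open AlgSp (Sp yon RepWith Representable IsAlgSpace LocP IsQuasiCompactMor IsSchImage)
open Groth.Agent.Lib.AlgSpace

variable {S : Scheme.{u}} {F G Z : Sp S}

theorem kerAt_eq_ker {f : F ⟶ G} {T V : Over S} {w : V ⟶ T} {fst : (yon S).obj V ⟶ F}
    {ξ : (yon S).obj T ⟶ G} (sq : IsPullback fst ((yon S).map w) f ξ) :
    kerAt f ξ = w.left.ker := by
  refine le_antisymm (sees_kerAt f ξ V w fst sq.w) (Sees.le_kerAt fun A b a ha ↦ ?_)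
  obtain ⟨k, hk⟩ := (yon S).map_surjective (sq.lift a ((yon S).map b) ha)
  have : k ≫ w = b := (yon S).map_injective (by rw [Functor.map_comp, hk, sq.lift_snd])
  rw [← this, Over.comp_left]
  exact Scheme.Hom.le_ker_comp _ _

/-- For a quasi-compact representable morphism the image cuts out the kernel on an atlas by a
coproduct of affine schemes. -/
theorem cut_ker_of_representable (hF : IsAlgSpace F) (hG : IsAlgSpace G) {f : F ⟶ G}
    (hf : IsQuasiCompactMor f) (hr : Representable f) {i : Z ⟶ G} (hZ : IsAlgSpace Z)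
    (h : IsSchImage f i) {ι : Type u} {O : ι → Over S} (hO : ∀ j, IsAffine (O j).left)
    {π : (yon S).obj (sigmaOver O) ⟶ G} (he : RepWith @Etale π) {V : Over S}
    {w : V ⟶ sigmaOver O} {fst : (yon S).obj V ⟶ F} (sq : IsPullback fst ((yon S).map w) f π) :
    QuasiCompact w.left ∧ Cut i π w.left.ker := by
  haveI hqc : QuasiCompact w.left := repWith_property ((QC.repWith_quasiCompact_iff hr).2 hf) sq
  refine ⟨hqc, ?_⟩
  obtain ⟨I, hI⟩ := exists_cut h.1 π
  suffices I = w.left.ker by rwa [← this]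
  have hj : ∀ j, I.comap (sigmaOverι O j).left = w.left.ker.comap (sigmaOverι O j).left := fun j ↦ by
    haveI hι : IsOpenImmersion (sigmaOverι O j).left :=
      inferInstanceAs (IsOpenImmersion (Sigma.ι (fun i ↦ (O i).left) j))
    have sqj := IsPullback.of_hasPullback w (sigmaOverι O j)
    rw [← ker_of_isPullback (w := w.left) (q := (sigmaOverι O j).left) (sqj.map (Over.forget S))]
    have hξ : RepWith @Etale ((yon S).map (sigmaOverι O j) ≫ π) :=
      repWith_comp (repWith_etale_yon_map (inferInstanceAs (Etale (sigmaOverι O j).left))) he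
    refine (hI.comap (sigmaOverι O j)).unique ?_
    show Cut i _ (pullback.snd w (sigmaOverι O j)).left.ker
    rw [show (pullback.snd w (sigmaOverι O j)).left.ker =
      kerAt f ((yon S).map (sigmaOverι O j) ≫ π) from
      (kerAt_eq_ker ((isPullback_yon sqj).paste_horiz sq)).symm]
    exact cut_kerAt hF hG hf hZ h (hO j) (LocP.locP_of_repWith SourceDescent.Scheme.flat
      (repWith_mono hξ fun _ _ g (_ : Etale g) ↦ (inferInstance : Flat g)))
  exact le_antisymm (le_of_components fun j ↦ (hj j).le) (le_of_components fun j ↦ (hj j).ge)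

/-- A representable open immersion with scheme theoretically dense inverse image on a chart. -/
theorem isSchDense_of_chart {j : F ⟶ G} (hj : RepWith @IsOpenImmersion j) {C V : Over S}
    {φ : (yon S).obj C ⟶ G} (he : RepWith @Etale φ) (hs : RepWith @Surjective φ) {l : V ⟶ C}
    {fst : (yon S).obj V ⟶ F} (sq : IsPullback fst ((yon S).map l) j φ)
    [IsOpenImmersion l.left] (h : CInt.IsSchematicallyDense l.left.opensRange) :
    AlgSp.IsSchDense j := by
  let e : Over.mk (l.left.opensRange.ι ≫ C.hom) ≅ V := Over.isoMk l.left.isoOpensRange.symm (by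
    simp only [Over.mk_hom, Iso.symm_hom]
    rw [← Over.w l, Scheme.Hom.isoOpensRange_inv_comp_assoc])
  refine ⟨hj, C, φ, l.left.opensRange, (yon S).map e.hom ≫ fst, he, hs, ?_, h⟩
  refine IsPullback.of_iso sq ((yon S).mapIso e.symm) (Iso.refl _) (Iso.refl _) (Iso.refl _)
    (by simp [← Functor.map_comp_assoc]) ?_ (by simp) (by simp)
  simp only [Iso.refl_hom, Category.comp_id, Functor.mapIso_hom, Iso.symm_hom, ← Functor.map_comp]
  congr 1
  ext1
  simp [e]

end Groth.Agent.Lib.AlgSpMor.SchImage
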