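import Groth.Prelude.Def_CInt
import Mathlib.AlgebraicGeometry.Morphisms.Etale
import Mathlib.AlgebraicGeometry.Morphisms.Flat
import Mathlib.RingTheory.Flat.FaithfullyFlat.Algebra
import Mathlib.RingTheory.AdjoinRoot
import Mathlib.RingTheory.Unramified.LocalStructure

/-!
# Schematic density along etale morphisms

Schematic density of an open, possibly not retrocompact, ascends along etale morphisms and descends
along flat surjective ones. The ring theoretic core: if functions on all basic opens of `Spec A`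
are detected on an open then the same holds on `Spec C` for a finite free `A`-algebra `C`.
-/

set_option autoImplicit false
set_option linter.style.haveILetI false

universe u

open CategoryTheory Opposite AlgebraicGeometry Polynomial

namespace Groth.Agent.Lib.AlgSpMor.SchImage

/-- If an ideal is saturated with respect to an integral element `g` and contains every scalar it
contains modulo `g`, it is the unit ideal. -/
theorem eq_top_of_saturated {A C : Type*} [CommRing A] [CommRing C] [Algebra A C] {g : C}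
    (hg : IsIntegral A g) (K : Ideal C) (hsat : ∀ x, g * x ∈ K → x ∈ K)
    (h : ∀ a : A, (∃ r, algebraMap A C a - g * r ∈ K) → algebraMap A C a ∈ K) : K = ⊤ := by
  obtain ⟨P, hP, h0⟩ := hg
  suffices ∀ (d : ℕ) (P : A[X]), P.Monic → P.natDegree = d → aeval g P ∈ K → K = ⊤ from
    this _ P hP rfl (by rw [aeval_def, h0]; exact K.zero_mem)
  intro d
  induction d with
  | zero =>
    intro P hP hd hK
    rw [hP.natDegree_eq_zero.1 hd, map_one] at hK
    exact (Ideal.eq_top_iff_one _).2 hK
  | succ d ih =>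
    intro P hP hd hK
    have e : aeval g P = g * aeval g P.divX + algebraMap A C (P.coeff 0) := by
      calc aeval g P = aeval g (X * P.divX + Polynomial.C (P.coeff 0)) := by
              rw [P.X_mul_divX_add]
        _ = _ := by rw [map_add, map_mul, aeval_X, aeval_C]
    have h1 : algebraMap A C (P.coeff 0) ∈ K :=
      h _ ⟨-aeval g P.divX, by
        rw [show algebraMap A C (P.coeff 0) - g * -aeval g P.divX = aeval g P by rw [e]; ring]
        exact hK⟩
    have h2 : aeval g P.divX ∈ K := hsat _ (by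
      have := K.sub_mem hK h1
      rwa [e, add_sub_cancel_right] at this)
    have hd' : P.divX.natDegree = d := by rw [natDegree_divX_eq_natDegree_tsub_one, hd]; simp
    refine ih P.divX ?_ hd' h2
    rw [Monic, leadingCoeff, hd', coeff_divX, ← hd]
    exact hP

/-- The core: detection of functions ascends to a finite free algebra. -/
theorem exists_pow_mul_eq_zero_of_basis {A C : Type*} [CommRing A] [CommRing C] [Algebra A C]
    {ι : Type*} [Finite ι] (b : Module.Basis ι A C) (I : Set A)
    (hI : ∀ h a : A, (∀ f ∈ I, ∃ n : ℕ, (h * f) ^ n * a = 0) → ∃ n : ℕ, h ^ n * a = 0)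
    {g : C} (hg : IsIntegral A g) {c : C}
    (hc : ∀ f ∈ I, ∃ n : ℕ, (g * algebraMap A C f) ^ n * c = 0) : ∃ n : ℕ, g ^ n * c = 0 := by
  classical
  cases nonempty_fintype ι
  -- detection by scalars
  have hlift : ∀ (h : A) (x : C), (∀ f ∈ I, ∃ n : ℕ, algebraMap A C (h * f) ^ n * x = 0) →
      ∃ n : ℕ, algebraMap A C h ^ n * x = 0 := by
    intro h x hx
    have : ∀ i, ∃ n : ℕ, h ^ n * b.repr x i = 0 := fun i ↦ hI h _ fun f hf ↦ by
      obtain ⟨n, hn⟩ := hx f hf
      refine ⟨n, ?_⟩
      rw [← map_pow, ← Algebra.smul_def] at hn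
      simpa using congr(b.repr $hn i)
    choose n hn using this
    refine ⟨Finset.univ.sup n, ?_⟩
    rw [← map_pow, ← Algebra.smul_def]
    refine b.ext_elem fun i ↦ ?_
    obtain ⟨k, hk⟩ := Nat.exists_eq_add_of_le (Finset.le_sup (f := n) (Finset.mem_univ i))
    simp only [map_smul, map_zero, Finsupp.smul_apply, Finsupp.coe_zero, Pi.zero_apply, smul_eq_mul]
    rw [hk, pow_add, mul_comm (h ^ n i), mul_assoc, hn i, mul_zero]
  let J : Ideal C :=
    { carrier := {x | ∃ n : ℕ, g ^ n * x * c = 0}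
      zero_mem' := ⟨0, by simp⟩
      add_mem' := by
        rintro x y ⟨n, hn⟩ ⟨m, hm⟩
        refine ⟨n + m, ?_⟩
        linear_combination g ^ m * hn + g ^ n * hm
      smul_mem' := by
        rintro a x ⟨n, hn⟩
        refine ⟨n, ?_⟩
        rw [smul_eq_mul]
        linear_combination a * hn }
  suffices h1 : (1 : C) ∈ J by
    obtain ⟨n, hn⟩ := h1
    exact ⟨n, by rwa [mul_one] at hn⟩
  rw [← Ideal.eq_top_iff_one, ← Ideal.radical_eq_top]
  have hJ : ∀ x, g * x ∈ J → x ∈ J := by
    rintro x ⟨n, hn⟩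
    exact ⟨n + 1, by linear_combination hn⟩
  have hsat : ∀ x, g * x ∈ J.radical → x ∈ J.radical := by
    rintro x ⟨n, m, hn⟩
    exact ⟨n, m + n, by linear_combination hn⟩
  -- scalars that vanish modulo `g`
  have step : ∀ (h : A) (r : C), algebraMap A C h - g * r ∈ J →
      algebraMap A C h ∈ J.radical := by
    rintro h r ⟨m, hm⟩
    obtain ⟨x, hx⟩ : ∃ x, x = (g * r) ^ m * g ^ m * c := ⟨_, rfl⟩
    have key : ∀ n : ℕ, algebraMap A C h ^ n * x = (g * r) ^ n * x := by
      intro n
      induction n with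
      | zero => simp
      | succ n ih =>
        have e1 : algebraMap A C h * x = g * r * x := by
          rw [hx]
          linear_combination (g * r) ^ m * hm
        linear_combination algebraMap A C h * ih + (g * r) ^ n * e1
    obtain ⟨N, hN⟩ := hlift h x fun f hf ↦ by
      obtain ⟨n, hn⟩ := hc f hf
      refine ⟨n, ?_⟩
      rw [map_mul, mul_pow, mul_right_comm, key, hx]
      linear_combination r ^ n * (g * r) ^ m * g ^ m * hn
    rw [key, hx] at hN
    have hr : r ^ (N + m) ∈ J := ⟨N + 2 * m, by linear_combination hN⟩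
    have h1 : algebraMap A C h - g * r ∈ J := ⟨m, hm⟩
    have h2 : g * r ∈ J.radical := J.radical.mul_mem_left g ⟨_, hr⟩
    simpa using J.radical.add_mem (J.le_radical h1) h2
  refine eq_top_of_saturated hg J.radical hsat fun a ↦ ?_
  rintro ⟨r, k, hk⟩
  have hdvd : ∃ r', algebraMap A C (a ^ k) - (algebraMap A C a - g * r) ^ k = g * r' := by
    obtain ⟨r', hr'⟩ := sub_dvd_pow_sub_pow (algebraMap A C a) (algebraMap A C a - g * r) k
    exact ⟨r * r', by rw [map_pow, hr']; ring⟩
  obtain ⟨r', hr'⟩ := hdvd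
  obtain ⟨l, hl⟩ := step (a ^ k) r' (by
    have : algebraMap A C (a ^ k) - g * r' = (algebraMap A C a - g * r) ^ k := by
      linear_combination hr'
    rw [this]; exact hk)
  exact ⟨k * l, by rwa [pow_mul, ← map_pow]⟩

/-- Detection of functions ascends to standard etale algebras. -/
theorem eq_zero_of_isStandardEtale {A B : Type u} [CommRing A] [CommRing B] [Algebra A B]
    [Algebra.IsStandardEtale A B] (I : Set A)
    (hI : ∀ h a : A, (∀ f ∈ I, ∃ n : ℕ, (h * f) ^ n * a = 0) → ∃ n : ℕ, h ^ n * a = 0)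
    {b : B} (hb : ∀ f ∈ I, ∃ n : ℕ, algebraMap A B f ^ n * b = 0) : b = 0 := by
  let P := (Algebra.IsStandardEtale.nonempty_standardEtalePresentation (R := A) (S := B)).some
  let e := P.equivRing.trans P.equivAwayAdjoinRoot
  let gC := AdjoinRoot.mk P.f P.g
  apply e.injective
  rw [map_zero]
  obtain ⟨⟨c, s⟩, hcs⟩ := IsLocalization.surj (Submonoid.powers gC) (e b)
  suffices ∃ n : ℕ, gC ^ n * c = 0 by
    obtain ⟨n, hn⟩ := this
    have h1 : algebraMap (AdjoinRoot P.f) (Localization.Away gC) c = 0 :=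
      (IsLocalization.map_eq_zero_iff (Submonoid.powers gC) _ _).2
        ⟨⟨gC ^ n, n, rfl⟩, hn⟩
    rw [h1] at hcs
    exact (IsLocalization.map_units (Localization.Away gC) s).mul_left_eq_zero.1 hcs
  haveI : Finite (Fin (AdjoinRoot.powerBasis' P.monic_f).dim) := inferInstance
  haveI : Module.Finite A (AdjoinRoot P.f) := P.monic_f.finite_adjoinRoot
  refine exists_pow_mul_eq_zero_of_basis (AdjoinRoot.powerBasis' P.monic_f).basis I hI
    (Algebra.IsIntegral.isIntegral gC) fun f hf ↦ ?_
  obtain ⟨n, hn⟩ := hb f hf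
  have h1 : algebraMap (AdjoinRoot P.f) (Localization.Away gC)
      (algebraMap A (AdjoinRoot P.f) f ^ n * c) = 0 := by
    rw [map_mul, map_pow, ← IsScalarTower.algebraMap_apply, ← hcs, ← mul_assoc, ← e.commutes f,
      ← map_pow, ← map_mul, hn, map_zero, zero_mul]
  obtain ⟨⟨_, m, rfl⟩, hm⟩ := (IsLocalization.map_eq_zero_iff (Submonoid.powers gC) _ _).1 h1
  refine ⟨m + n, ?_⟩
  simp only at hm
  linear_combination gC ^ n * algebraMap A (AdjoinRoot P.f) f ^ m * hm

/-- Schematic density in terms of the functions on an affine open. -/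
theorem exists_pow_mul_eq_zero_of_isSchematicallyDense {X : Scheme.{u}} {W : X.Opens}
    (hW : CInt.IsSchematicallyDense W) {V : X.Opens} (hV : IsAffineOpen V) (h a : Γ(X, V))
    (H : ∀ f : Γ(X, V), X.basicOpen f ≤ W → ∃ n : ℕ, (h * f) ^ n * a = 0) :
    ∃ n : ℕ, h ^ n * a = 0 := by
  suffices X.presheaf.map (homOfLE (X.basicOpen_le h)).op a = 0 by
    obtain ⟨⟨_, n, rfl⟩, hn⟩ :=
      ((hV.isLocalization_basicOpen h).map_eq_zero_iff (Submonoid.powers h) _ a).1 this
    exact ⟨n, hn⟩
  refine hW _ ?_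
  rw [map_zero]
  apply TopCat.Presheaf.section_ext X.sheaf
  intro x hx
  obtain ⟨f, hfW, hxf⟩ := hV.exists_basicOpen_le ⟨x, hx.2⟩ (X.basicOpen_le h hx.1)
  obtain ⟨n, hn⟩ := H f hfW
  have hle : X.basicOpen (h * f) ≤ X.basicOpen h ⊓ W := by
    rw [Scheme.basicOpen_mul]; exact inf_le_inf_left _ hfW
  have h0 : X.presheaf.map (homOfLE (X.basicOpen_le (h * f))).op a = 0 :=
    ((hV.isLocalization_basicOpen (h * f)).map_eq_zero_iff (Submonoid.powers (h * f)) _ a).2
      ⟨⟨_, n, rfl⟩, hn⟩
  have hxm : x ∈ X.basicOpen (h * f) := by rw [Scheme.basicOpen_mul]; exact ⟨hx.1, hxf⟩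
  change X.presheaf.germ _ x hx _ = X.presheaf.germ _ x hx _
  rw [map_zero, X.presheaf.germ_res_apply, X.presheaf.germ_res_apply,
    ← X.presheaf.germ_res_apply (homOfLE (X.basicOpen_le (h * f))) x hxm, h0, map_zero]

/-- **Schematic density ascends along etale morphisms.** -/
theorem isSchematicallyDense_preimage_of_etale {X' X : Scheme.{u}} (π : X' ⟶ X) [Etale π]
    {W : X.Opens} (hW : CInt.IsSchematicallyDense W) : CInt.IsSchematicallyDense (π ⁻¹ᵁ W) := by
  intro U
  rw [injective_iff_map_eq_zero]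
  intro a ha
  apply TopCat.Presheaf.section_ext X'.sheaf
  intro x hx
  change X'.presheaf.germ U x hx a = X'.presheaf.germ U x hx 0
  rw [map_zero]
  obtain ⟨V, hV, hxV, -⟩ := exists_isAffineOpen_mem_and_subset (x := π x) (U := ⊤) trivial
  obtain ⟨U', hU', hxU', hle⟩ :=
    exists_isAffineOpen_mem_and_subset (x := x) (U := U ⊓ π ⁻¹ᵁ V) ⟨hx, hxV⟩
  have hle1 : U' ≤ U := fun y hy ↦ (hle hy).1
  have hle2 : U' ≤ π ⁻¹ᵁ V := fun y hy ↦ (hle hy).2
  let φ := π.appLE V U' hle2
  have h1 : φ.hom.Etale := π.etale_appLE hV hU' hle2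
  let : Algebra Γ(X, V) Γ(X', U') := φ.hom.toAlgebra
  have : Algebra.Etale Γ(X, V) Γ(X', U') := h1
  obtain ⟨g, hg, hst⟩ := Algebra.IsEtaleAt.exists_isStandardEtale (R := Γ(X, V))
    (hU'.primeIdealOf ⟨x, hxU'⟩).asIdeal
  let a' : Γ(X', U') := X'.presheaf.map (homOfLE hle1).op a
  have key : algebraMap Γ(X', U') (Localization.Away g) a' = 0 := by
    refine eq_zero_of_isStandardEtale {f | X.basicOpen f ≤ W}
      (fun h b H ↦ exists_pow_mul_eq_zero_of_isSchematicallyDense hW hV h b H) fun f hf ↦ ?_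
    have hb : X'.basicOpen (φ f) ≤ U ⊓ π ⁻¹ᵁ W := by
      refine le_inf ((X'.basicOpen_le _).trans hle1) ?_
      rw [Scheme.basicOpen_appLE]
      exact inf_le_right.trans (π.preimage_mono hf)
    have h0 : X'.presheaf.map (homOfLE (X'.basicOpen_le (φ f))).op a' = 0 := by
      have := congrArg (X'.presheaf.map (homOfLE hb).op) ha
      rw [map_zero] at this
      rw [← this]
      simp only [a', ← ConcreteCategory.comp_apply, ← Functor.map_comp]
      rfl
    obtain ⟨⟨_, n, rfl⟩, hn⟩ :=
      ((hU'.isLocalization_basicOpen (φ f)).map_eq_zero_iff (Submonoid.powers (φ f)) _ a').1 h0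
    refine ⟨n, ?_⟩
    rw [IsScalarTower.algebraMap_apply Γ(X, V) Γ(X', U') (Localization.Away g), ← map_pow,
      ← map_mul]
    exact (congrArg _ hn).trans (map_zero _)
  obtain ⟨⟨_, n, rfl⟩, hn⟩ :=
    (IsLocalization.map_eq_zero_iff (Submonoid.powers g) _ _).1 key
  have hxg : x ∈ X'.basicOpen g := by
    rw [show x = hU'.fromSpec (hU'.primeIdealOf ⟨x, hxU'⟩) from
      (hU'.fromSpec_primeIdealOf ⟨x, hxU'⟩).symm, ← Scheme.Hom.mem_preimage,
      hU'.fromSpec_preimage_basicOpen]
    exact hg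
  have h2 : X'.presheaf.map (homOfLE (X'.basicOpen_le g)).op a' = 0 :=
    ((hU'.isLocalization_basicOpen g).map_eq_zero_iff (Submonoid.powers g) _ a').2
      ⟨⟨_, n, rfl⟩, hn⟩
  rw [← X'.presheaf.germ_res_apply (homOfLE hle1) x hxU',
    ← X'.presheaf.germ_res_apply (homOfLE (X'.basicOpen_le g)) x hxg]
  erw [h2, map_zero]

/-- Schematic density descends along flat surjective morphisms. -/
theorem isSchematicallyDense_of_preimage {X' X : Scheme.{u}} (π : X' ⟶ X) [Flat π] [Surjective π]
    {W : X.Opens} (hW : CInt.IsSchematicallyDense (π ⁻¹ᵁ W)) : CInt.IsSchematicallyDense W := by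
  intro U
  rw [injective_iff_map_eq_zero]
  intro a ha
  have hπ : π.app U a = 0 := by
    refine hW _ ?_
    rw [map_zero]
    have := congrArg (π.app (U ⊓ W)) ha
    rw [map_zero] at this
    refine Eq.trans ?_ this
    exact (ConcreteCategory.congr_hom
      (π.naturality (homOfLE (inf_le_left : U ⊓ W ≤ U)).op) a).symm
  apply TopCat.Presheaf.section_ext X.sheaf
  intro y hy
  change X.presheaf.germ U y hy a = X.presheaf.germ U y hy 0
  rw [map_zero]
  obtain ⟨x, rfl⟩ := π.surjective y
  let : Algebra (X.presheaf.stalk (π x)) (X'.presheaf.stalk x) := (π.stalkMap x).hom.toAlgebra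
  have : Module.Flat (X.presheaf.stalk (π x)) (X'.presheaf.stalk x) := Flat.stalkMap π x
  have : IsLocalHom (algebraMap (X.presheaf.stalk (π x)) (X'.presheaf.stalk x)) :=
    inferInstanceAs (IsLocalHom (π.stalkMap x).hom)
  have := Module.FaithfullyFlat.of_flat_of_isLocalHom
    (A := X.presheaf.stalk (π x)) (B := X'.presheaf.stalk x)
  refine FaithfulSMul.algebraMap_injective (X.presheaf.stalk (π x)) (X'.presheaf.stalk x) ?_
  rw [map_zero]
  show π.stalkMap x (X.presheaf.germ U (π x) hy a) = 0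
  rw [Scheme.Hom.germ_stalkMap_apply, hπ, map_zero]

end Groth.Agent.Lib.AlgSpMor.SchImage
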