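import Groth.Agent.Lib.AlgSpMor.SchImage.Rep
import Groth.Agent.Lib.AlgSpMor.SchImage.Dense

/-!
# Schematically dense open subspaces are dense on every chart
-/

set_option autoImplicit false
set_option linter.style.haveILetI false

universe u

open CategoryTheory CategoryTheory.Limits AlgebraicGeometry

namespace Groth.Agent.Lib.AlgSpMor.SchImage

open AlgSp (Sp yon RepWith IsSchDense)
open Groth.Agent.Lib.AlgSpace

variable {S : Scheme.{u}} {F G : Sp S}

theorem isSchematicallyDense_mono {X : Scheme.{u}} {W W' : X.Opens}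
    (hW : CInt.IsSchematicallyDense W) (h : W ≤ W') : CInt.IsSchematicallyDense W' := by
  intro U a b hab
  refine hW U ?_
  have := congrArg (X.presheaf.map (homOfLE (inf_le_inf_left U h)).op) hab
  simp only [← ConcreteCategory.comp_apply, ← Functor.map_comp] at this
  exact this

theorem isSchematicallyDense_inf {X : Scheme.{u}} {W W' : X.Opens}
    (hW : CInt.IsSchematicallyDense W) (hW' : CInt.IsSchematicallyDense W') :
    CInt.IsSchematicallyDense (W ⊓ W') := by
  intro U a b hab
  apply hW U
  apply hW' (U ⊓ W)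
  simp only [← ConcreteCategory.comp_apply, ← Functor.map_comp]
  have := congrArg (X.presheaf.map (homOfLE (inf_assoc U W W').le).op) hab
  simp only [← ConcreteCategory.comp_apply, ← Functor.map_comp] at this
  exact this

/-- An open of a chart mapping into the subspace lies in the range of the inverse image. -/
theorem le_opensRange_of_factor {j : G ⟶ F} {T Q : Over S} {φ : (yon S).obj T ⟶ F} {l : Q ⟶ T}
    {fst : (yon S).obj Q ⟶ G} (sq : IsPullback fst ((yon S).map l) j φ) [IsOpenImmersion l.left]
    {A : Over S} (b : A ⟶ T) (a : (yon S).obj A ⟶ G) (h : a ≫ j = (yon S).map b ≫ φ) (x : ↥A.left) :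
    b.left x ∈ l.left.opensRange := by
  obtain ⟨k, hk⟩ := (yon S).map_surjective (sq.lift a ((yon S).map b) h)
  have : k ≫ l = b := (yon S).map_injective (by rw [Functor.map_comp, hk, sq.lift_snd])
  exact ⟨k.left x, by rw [← this, Over.comp_left]; rfl⟩

/-- The inverse image of a schematically dense open subspace is dense on every etale chart. -/
theorem isSchematicallyDense_chart {j : G ⟶ F} (hj : IsSchDense j) {T : Over S}
    {φ : (yon S).obj T ⟶ F} (hφ : RepWith @Etale φ) {Q : Over S} {l : Q ⟶ T}
    {fst : (yon S).obj Q ⟶ G} (sq : IsPullback fst ((yon S).map l) j φ) [IsOpenImmersion l.left] :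
    CInt.IsSchematicallyDense l.left.opensRange := by
  obtain ⟨C, φ₀, W₀, fst₀, he, hs, sq₀, hW⟩ := hj.2
  obtain ⟨R, r, fc, sqR, hr⟩ := repWith_exists he φ
  obtain ⟨r₁, rfl⟩ := (yon S).map_surjective fc
  haveI : Etale r.left := hr
  haveI : Surjective r.left := repWith_property hs sqR
  haveI : Etale r₁.left := repWith_property hφ sqR.flip
  haveI : Flat r.left := inferInstance
  refine isSchematicallyDense_of_preimage r.left (isSchematicallyDense_mono
    (isSchematicallyDense_preimage_of_etale r₁.left hW) fun t ht ↦ ?_)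
  let O := r₁.left ⁻¹ᵁ W₀
  let A : Over S := Over.mk (O.ι ≫ R.hom)
  let i : A ⟶ R := Over.homMk O.ι rfl
  let k : A ⟶ Over.mk (W₀.ι ≫ C.hom) := Over.homMk (r₁.left ∣_ W₀) (by
    show (r₁.left ∣_ W₀) ≫ W₀.ι ≫ C.hom = O.ι ≫ R.hom
    rw [morphismRestrict_ι_assoc, Over.w])
  have hk : k ≫ Over.homMk W₀.ι rfl = i ≫ r₁ :=
    Over.OverMorphism.ext (morphismRestrict_ι r₁.left W₀)
  exact le_opensRange_of_factor sq (i ≫ r) ((yon S).map k ≫ fst₀) (by
    rw [Category.assoc, sq₀.w, ← Category.assoc, ← Functor.map_comp, hk, Functor.map_comp,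
      Category.assoc, sqR.w, ← Category.assoc, ← Functor.map_comp]) (⟨t, ht⟩ : O.1)

end Groth.Agent.Lib.AlgSpMor.SchImage
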