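import Groth.Agent.Lib.AlgSpMor.SchImage.Basic
import Groth.Agent.Lib.AlgSpMor.AffineDescent
import Groth.Agent.Lib.AlgSpMor.Sep
import Groth.Agent.Lib.AlgSpDecent.Core

/-!
# Closed subspaces from invariant ideals on a chart
-/

set_option autoImplicit false
set_option linter.style.haveILetI false

universe u

open CategoryTheory CategoryTheory.Limits AlgebraicGeometry Opposite

namespace Groth.Agent.Lib.AlgSpMor.SchImage

open AlgSp
open Groth.Agent.Lib.AlgSpace

variable {S : Scheme.{u}}

/-- An ideal on an etale atlas with equal inverse images on the relation cuts out a closed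
subspace. -/
theorem exists_of_invariant {G : Sp S} (hG : IsAlgSpace G) {U R : Over S}
    {π : (yon S).obj U ⟶ G} (he : RepWith @Etale π) (hs : RepWith @Surjective π) {t s : R ⟶ U}
    (sq : IsPullback ((yon S).map t) ((yon S).map s) π π) (I : U.left.IdealSheafData)
    (hI : I.comap t.left = I.comap s.left) :
    ∃ (Z : Sp S) (i : Z ⟶ G), IsAlgSpace Z ∧ RepWith @IsClosedImmersion i ∧ Cut i π I := by
  have hloc := isLocallySurjective_of_etale he hs
  have het : Etale t.left := repWith_property he sq.flip
  have hes : Etale s.left := repWith_property he sq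
  let Z₀ : Over S := sub I
  let g : Z₀ ⟶ U := subι I
  have hg : IsClosedImmersion g.left := inferInstanceAs (IsClosedImmersion I.subschemeι)
  let RZ := pullback g t
  let tZ : RZ ⟶ Z₀ := pullback.fst g t
  let r : RZ ⟶ R := pullback.snd g t
  have hr : IsClosedImmersion r.left :=
    MorphismProperty.of_isPullback (P := @IsClosedImmersion)
      ((IsPullback.of_hasPullback g t).map (Over.forget S)) hg
  have htZ : Etale tZ.left :=
    MorphismProperty.of_isPullback (P := @Etale)
      ((IsPullback.of_hasPullback g t).map (Over.forget S)).flip het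
  obtain ⟨sZ, hsZ⟩ : ∃ sZ : RZ ⟶ Z₀, sZ ≫ g = r ≫ s := by
    refine (le_ker_iff I _).1 ?_
    rw [← comap_le_ker_iff, ← hI, comap_le_ker_iff]
    exact (le_ker_iff I _).2 ⟨tZ, pullback.condition⟩
  -- the other fibre product is the same closed subscheme of `R`
  let RZ' := pullback g s
  let r' : RZ' ⟶ R := pullback.snd g s
  have hsZ' : Etale (pullback.fst g s).left :=
    MorphismProperty.of_isPullback (P := @Etale)
      ((IsPullback.of_hasPullback g s).map (Over.forget S)).flip hes
  obtain ⟨tZ', htZ'⟩ : ∃ tZ' : RZ' ⟶ Z₀, tZ' ≫ g = r' ≫ t := by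
    refine (le_ker_iff I _).1 ?_
    rw [← comap_le_ker_iff, hI, comap_le_ker_iff]
    exact (le_ker_iff I _).2 ⟨pullback.fst g s, pullback.condition⟩
  obtain ⟨m, hm₁, hm₂⟩ : ∃ m : RZ' ⟶ RZ, m ≫ tZ = tZ' ∧ m ≫ r = r' :=
    ⟨pullback.lift tZ' r' htZ', pullback.lift_fst _ _ _, pullback.lift_snd _ _ _⟩
  have hm₃ : m ≫ sZ = pullback.fst g s := by
    rw [← cancel_mono g, Category.assoc, hsZ, reassoc_of% hm₂]
    exact (pullback.condition (f := g) (g := s)).symm
  have hmi : IsIso m := by
    have : Mono r := (Over.forget S).mono_of_mono_map (inferInstanceAs (Mono r.left))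
    refine ⟨pullback.lift sZ r hsZ, ?_, ?_⟩
    · apply pullback.hom_ext
      · rw [Category.assoc, pullback.lift_fst, Category.id_comp, hm₃]
      · rw [Category.assoc, pullback.lift_snd, Category.id_comp, hm₂]
    · rw [← cancel_mono r, Category.assoc, hm₂, Category.id_comp]
      exact pullback.lift_snd _ _ _
  have hes' : Etale sZ.left := by
    have : Etale (m.left ≫ sZ.left) := by rw [← Over.comp_left, hm₃]; exact hsZ'
    have : IsIso m.left := inferInstanceAs (IsIso ((Over.forget S).map m))
    exact (MorphismProperty.cancel_left_of_respectsIso @Etale m.left sZ.left).1 ‹_›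
  -- the relation
  have hrel : ∀ (T' : Over S) (a b : T' ⟶ Z₀),
      (∃ c : T' ⟶ RZ, c ≫ tZ = a ∧ c ≫ sZ = b) ↔
        (yon S).map (a ≫ g) ≫ π = (yon S).map (b ≫ g) ≫ π := by
    intro T' a b
    constructor
    · rintro ⟨c, rfl, rfl⟩
      rw [Category.assoc, Category.assoc, hsZ, show tZ ≫ g = r ≫ t from pullback.condition]
      simp only [Functor.map_comp, Category.assoc, sq.w]
    · intro h
      obtain ⟨c, hc⟩ := (yon S).map_surjective (sq.lift _ _ h)
      have hct : c ≫ t = a ≫ g := (yon S).map_injective (by rw [Functor.map_comp, hc, sq.lift_fst])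
      have hcs : c ≫ s = b ≫ g := (yon S).map_injective (by rw [Functor.map_comp, hc, sq.lift_snd])
      obtain ⟨l, hl₁, hl₂⟩ : ∃ l : T' ⟶ RZ, l ≫ tZ = a ∧ l ≫ r = c :=
        ⟨pullback.lift a c hct.symm, pullback.lift_fst _ _ _, pullback.lift_snd _ _ _⟩
      refine ⟨l, hl₁, ?_⟩
      rw [← cancel_mono g, Category.assoc, hsZ, reassoc_of% hl₂, hcs]
  have heq : IsEtaleEqvRel sZ tZ :=
    { injective := fun T' c c' h1 h2 => by
        have ht : (c ≫ r) ≫ t = (c' ≫ r) ≫ t := by
          rw [Category.assoc, Category.assoc, ← show tZ ≫ g = r ≫ t from pullback.condition,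
            reassoc_of% h1]
        have hs' : (c ≫ r) ≫ s = (c' ≫ r) ≫ s := by
          rw [Category.assoc, Category.assoc, ← hsZ, reassoc_of% h2]
        exact pullback.hom_ext h1 ((yon S).map_injective (sq.hom_ext
          (by rw [← Functor.map_comp, ← Functor.map_comp, ht])
          (by rw [← Functor.map_comp, ← Functor.map_comp, hs'])))
      equivalence := fun T' =>
        ⟨fun a => (hrel T' a a).2 rfl, fun h => (hrel T' _ _).2 ((hrel T' _ _).1 h).symm,
          fun h h' => (hrel T' _ _).2 (((hrel T' _ _).1 h).trans ((hrel T' _ _).1 h'))⟩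
      etale_left := hes'
      etale_right := htZ }
  let Z := QuotSh.quot Scheme.fppfPrecoverage sZ tZ
  let π' := quotMap sZ tZ
  have hloc' := isLocallySurjective_quotMap sZ tZ
  let φ : Z ⟶ G :=
    coequalizer.desc
      ((QuotSh.repIsoUliftYoneda Scheme.fppfPrecoverage Z₀).hom ≫ (yon S).map g ≫ π) (by
        rw [repMap_repIso_hom_assoc, repMap_repIso_hom_assoc, ← Functor.map_comp_assoc,
          ← Functor.map_comp_assoc, hsZ, show tZ ≫ g = r ≫ t from pullback.condition,
          Functor.map_comp, Functor.map_comp, Category.assoc, Category.assoc, sq.w])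
  have hφ : π' ≫ φ = (yon S).map g ≫ π := by
    simp only [π', quotMap, QuotSh.quotπ, φ, Category.assoc]
    erw [coequalizer.π_desc]
    simp
  have sqb : IsPullback π' ((yon S).map g) φ π := by
    refine isPullback_of_yon hφ (fun T' c c' _ h => (cancel_mono ((yon S).map g)).1 h)
      fun T' x₀ y₀ e => ?_
    obtain ⟨y, rfl⟩ := (yon S).map_surjective y₀
    obtain ⟨T'', p, x, hp, hx⟩ := exists_lift_of_isLocallySurjective π' x₀
    obtain ⟨x, rfl⟩ := (yon S).map_surjective x
    have key : (yon S).map (x ≫ g) ≫ π = (yon S).map (p ≫ y) ≫ π := by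
      simp only [Functor.map_comp, Category.assoc, ← hφ, ← e]
      rw [reassoc_of% hx]
    obtain ⟨c, hc⟩ := (yon S).map_surjective (sq.lift _ _ key)
    have hct : c ≫ t = x ≫ g := (yon S).map_injective (by rw [Functor.map_comp, hc, sq.lift_fst])
    have hcs : c ≫ s = p ≫ y := (yon S).map_injective (by rw [Functor.map_comp, hc, sq.lift_snd])
    obtain ⟨l, hl₁, hl₂⟩ : ∃ l : T'' ⟶ RZ, l ≫ tZ = x ∧ l ≫ r = c :=
      ⟨pullback.lift x c hct.symm, pullback.lift_fst _ _ _, pullback.lift_snd _ _ _⟩
    have hlg : (l ≫ sZ) ≫ g = p ≫ y := by rw [Category.assoc, hsZ, reassoc_of% hl₂, hcs]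
    have hps : Sheaf.IsLocallySurjective ((yon S).map p) := isLocallySurjective_yon_map p hp
    have := epi_yon_map p hp
    obtain ⟨z, hz⟩ := exists_desc ((yon S).map p)
      (IsPullback.of_hasPullback ((yon S).map p) ((yon S).map p)) ((yon S).map (l ≫ sZ)) (by
        rw [← cancel_mono ((yon S).map g)]
        simp only [Category.assoc, ← Functor.map_comp, hlg]
        simp only [Functor.map_comp]
        exact pullback.condition_assoc _)
    refine ⟨z, ?_, ?_⟩
    · rw [← cancel_epi ((yon S).map p), reassoc_of% hz, ← hx, ← hl₁, Functor.map_comp,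
        Functor.map_comp, Category.assoc, Category.assoc, quotMap_condition sZ tZ]
    · rw [← cancel_epi ((yon S).map p), reassoc_of% hz, ← Functor.map_comp, hlg, Functor.map_comp]
  have haff : RepWith @IsAffineHom ((yon S).map g) :=
    (repWith_yon_map_iff _ g).2 (inferInstanceAs (IsAffineHom g.left))
  have hrep : RepWith @IsAffineHom φ := by
    have := AffineDescent.isLocalAtTarget_isAffineHom.{u}
    exact AlgSpMor.RepDescent.repWith_of_cover _ AlgSpMor.RepDescent.effective_isAffineHom
      hG.diag he hs sqb haff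
  have hci : RepWith @IsClosedImmersion φ := by
    have := AlgSpMor.Sep.isLocalAtTarget_fppf_isClosedImmersion.{u}
    exact repWith_of_isLocallySurjective hrep.rep π sqb @IsClosedImmersion
      ((repWith_yon_map_iff _ g).2 hg)
  refine ⟨Z, φ, isAlgSpace_quot heq, hci, ?_⟩
  have hker : g.left.ker = I := ker_subι I
  rw [← hker]
  exact cut_of_isPullback sqb

end Groth.Agent.Lib.AlgSpMor.SchImage
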